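import Mathlib
import Cfsg.Agent.H634.ZJ
import Cfsg.Agent.PLocal.ThompsonJA
import Cfsg.Agent.S3081

/-!
# One class of nontrivial `p`-elements, with `p`-nilpotent centralizers

For `p` odd the Sylow `p`-subgroups are then elementary abelian, and `N_G(P) / C_G(P)` is regular on the
nontrivial elements of `P`.
-/

set_option autoImplicit false

open Cfsg

namespace Cfsg.Agent.H634.Fus

open Cfsg.Agent.H634.ZJ

variable {G : Type*} [Group G] {p : ℕ}

/-- The nontrivial `p`-elements are conjugate. -/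
def OneClass (p : ℕ) (G : Type*) [Group G] : Prop :=
  ∀ x y : G, (∃ k : ℕ, orderOf x = p ^ k) → x ≠ 1 → (∃ k : ℕ, orderOf y = p ^ k) → y ≠ 1 → IsConj x y

theorem exists_pow_of_mem [Fact p.Prime] {P : Subgroup G} (hP : IsPGroup p P) {x : G} (hx : x ∈ P) :
    ∃ k : ℕ, orderOf x = p ^ k := by
  obtain ⟨k, hk⟩ := (IsPGroup.iff_orderOf.1 hP) ⟨x, hx⟩
  exact ⟨k, by rw [← hk, ← Subgroup.orderOf_coe]⟩

theorem isStronglyClosed_self (P : Subgroup G) : IsStronglyClosed P P :=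
  ⟨le_rfl, fun _ _ _ h => h⟩

/-- The Sylow `p`-subgroups are abelian. -/
theorem sylow_comm [Finite G] [hp : Fact p.Prime] (hp2 : p ≠ 2) (hN : NilCent p G)
    (hC : OneClass p G) (P : Sylow p G) {a b : G} (ha : a ∈ P) (hb : b ∈ P) : a * b = b * a := by
  by_cases hP1 : (P : Subgroup G) = ⊥
  · have h1 : a ∈ (P : Subgroup G) := ha
    rw [hP1, Subgroup.mem_bot] at h1
    rw [h1, one_mul, mul_one]
  set W := centerThompsonAOf (P : Subgroup G) with hW
  have hW1 : W ≠ ⊥ := PLocal.ThompsonJA.centerThompsonAOf_ne_bot _ P.isPGroup' hP1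
  have hWP : W ≤ P := PLocal.ThompsonJA.centerThompsonAOf_le _
  obtain ⟨⟨w, hw⟩, hw1⟩ := Subgroup.ne_bot_iff_exists_ne_one.1 hW1
  have hw1' : w ≠ 1 := fun h => hw1 (Subtype.ext h)
  have hPW : ∀ x : G, x ∈ (P : Subgroup G) → x ∈ W := by
    intro x hx
    by_cases hx1 : x = 1
    · rw [hx1]; exact W.one_mem
    obtain ⟨g, hg⟩ := isConj_iff.1 (hC w x (exists_pow_of_mem P.isPGroup' (hWP hw)) hw1'
      (exists_pow_of_mem P.isPGroup' hx) hx1)
    obtain ⟨-, h1⟩ := (S3081.result hp2 P (P : Subgroup G) (isStronglyClosed_self _)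
      (hN.not_involves' hp2)).1 {w} (by
        rw [Set.singleton_subset_iff]; exact hWP hw)
    obtain ⟨n, hn, hn1⟩ := h1 g (by
      rintro _ ⟨z, hz, rfl⟩
      rw [Set.mem_singleton_iff] at hz
      subst hz
      change g * z * g⁻¹ ∈ (P : Subgroup G)
      rw [hg]; exact hx)
    have h2 := hn1 w rfl
    rw [← hg, h2]
    exact (Subgroup.mem_normalizer_iff.1 hn w).1 hw
  have hcomm : IsMulCommutative W := PLocal.ThompsonJA.isMulCommutative_centerThompsonAOf _
  have h3 := hcomm.is_comm.comm ⟨a, hPW a ha⟩ ⟨b, hPW b hb⟩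
  exact congrArg Subtype.val h3

/-- All nontrivial `p`-elements have order `p`. -/
theorem orderOf_eq [Finite G] [hp : Fact p.Prime] (hC : OneClass p G) {x : G}
    (hx : ∃ k : ℕ, orderOf x = p ^ k) (hx1 : x ≠ 1) : orderOf x = p := by
  obtain ⟨k, hk⟩ := hx
  have hk0 : k ≠ 0 := by
    rintro rfl
    rw [pow_zero, orderOf_eq_one_iff] at hk
    exact hx1 hk
  have hdvd : p ∣ Nat.card G := (dvd_pow_self p hk0).trans (hk ▸ orderOf_dvd_natCard x)
  obtain ⟨y, hy⟩ := exists_prime_orderOf_dvd_card' p hdvd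
  have hy1 : y ≠ 1 := by
    rintro rfl
    rw [orderOf_one] at hy
    exact hp.out.one_lt.ne hy
  obtain ⟨g, hg⟩ := isConj_iff.1 (hC x y ⟨k, hk⟩ hx1 ⟨1, by rw [hy, pow_one]⟩ hy1)
  rw [← hy, ← hg]
  exact (MulEquiv.orderOf_eq (MulAut.conj g) x).symm

theorem pow_eq_one [Finite G] [hp : Fact p.Prime] (hC : OneClass p G) {x : G}
    (hx : ∃ k : ℕ, orderOf x = p ^ k) : x ^ p = 1 := by
  by_cases hx1 : x = 1
  · rw [hx1, one_pow]
  · rw [← orderOf_eq hC hx hx1, pow_orderOf_eq_one]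

end Cfsg.Agent.H634.Fus
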