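import Cfsg.Agent.H634.ElPSL
import Cfsg.Agent.S0280
import Cfsg.Agent.LieClassical.SUBasic

/-!
# Elimination: `PSU_m(q)`
-/

set_option autoImplicit false

open Cfsg Subgroup

namespace Cfsg.Agent.H634.El

open Cfsg.Agent.H634.HypS Cfsg.Agent.H634.Dim Cfsg.Agent.H634.Num Cfsg.Agent.LieClassical.SUBasic

variable {p n t : ℕ} {S : Type*} [Group S]

theorem geom_add (q i : ℕ) : (q + 1) ∣ if Even i then q ^ (i + 1) + 1 else q ^ (i + 1) - 1 := by
  split_ifs with h
  · have h1 : Odd (i + 1) := h.add_one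
    have := Odd.nat_add_dvd_pow_add_pow q 1 h1
    rwa [one_pow] at this
  · rw [Nat.not_even_iff_odd] at h
    obtain ⟨k, hk⟩ := h.add_one
    have h2 : i + 1 = 2 * k := by omega
    rw [h2, pow_mul]
    have h3 := Nat.sub_dvd_pow_sub_pow (q ^ 2) 1 k
    rw [one_pow] at h3
    have h4 := Nat.sq_sub_sq q 1
    rw [one_pow] at h4
    rw [h4] at h3
    exact (Dvd.intro _ rfl).trans h3

theorem su_center_pow {F : Type*} [Field F] {q m k : ℕ} {c : F} (hcn : c ^ m = 1) (hcq : c ^ (q + 1) = 1)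
    (h : c ^ k = 1) : (suScalar q c hcn hcq : SU m F q) ^ k = 1 := by
  apply Subtype.ext
  apply Subtype.ext
  rw [Subgroup.coe_pow, Matrix.SpecialLinearGroup.coe_pow, coe_suScalar, Matrix.diagonal_pow, Subgroup.coe_one,
    Matrix.SpecialLinearGroup.coe_one]
  have : (fun _ : Fin m => c) ^ k = fun _ => 1 := by
    funext i
    rw [Pi.pow_apply, h]
  rw [this]
  exact Matrix.diagonal_one

/-- Cross characteristic. -/
theorem psu_cross [hp : Fact p.Prime] (s : Sit p n t S) {F : Type*} [Field F] [Fintype F] {m q : ℕ} (hm : 3 ≤ m)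
    (hF : Fintype.card F = q ^ 2) (hpF : ¬ p ∣ q) (e : S ≃* PSU m F q) : False := by
  classical
  have hq1 : 1 ≤ q := by
    have := Fintype.one_lt_card (α := F)
    rw [hF] at this
    by_contra h
    have h0 : q = 0 := by omega
    rw [h0] at this
    norm_num at this
  have hcard := S0280.result hF m (by omega)
  rw [← Nat.card_congr e.toEquiv] at hcard
  have hp3 := s.p3
  let ρ : SU m F q →* Matrix (Fin m) (Fin m) F := (slToMat m F).comp (SU m F q).subtype
  have hρ : Function.Injective ρ := fun a b hab => Subtype.ext (Subtype.ext hab)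
  have hpF' : (p : F) ≠ 0 := natCast_ne_zero (by
    rw [hF]
    exact fun h => hpF (hp.out.dvd_of_dvd_pow h))
  have hq0 : (-(q : ZMod p)) ≠ 0 := neg_ne_zero.2 (zmod_ne_zero hpF)
  obtain ⟨d, hd0, hd, hd1, hd2⟩ := exists_order hq0
  by_cases hpq : p ∣ q + 1
  · -- `p` divides `q + 1`
    have h1 : (q + 1) ^ (m - 2) ∣ Nat.card S := by
      refine pow_dvd_card (by omega) (by omega) (Nat.gcd_dvd_right m (q + 1)) hcard fun i => geom_add q _
    have h2 := s.le_of_dvd ((pow_dvd_pow_of_dvd hpq _).trans h1)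
    by_cases hpm : p ∣ m
    · have h3 := bound_sq s.p3 s.n3 s.odd (by omega) hpm (by omega) s.ht
      have h4 := le_sq_of_center s.dat e hpF' ρ hρ
      rw [Fintype.card_fin] at h4
      omega
    · refine s.cross e hpm (fun z hz => ?_) hpF' ρ hρ ?_
      · obtain ⟨c, hcn, hcq, rfl⟩ := (mem_center_SU_iff hF hm z).1 hz
        exact su_center_pow hcn hcq hcn
      rw [Fintype.card_fin]
      have h5 : n + 1 ≤ (n + 1) * (p - 1) := Nat.le_mul_of_pos_right _ (by omega)
      omega
  · refine s.cross e hpq (fun z hz => ?_) hpF' ρ hρ ?_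
    · obtain ⟨c, hcn, hcq, rfl⟩ := (mem_center_SU_iff hF hm z).1 hz
      exact su_center_pow hcn hcq hcq
    rw [Fintype.card_fin]
    have h1 : p ^ (m / d) ∣ ∏ i ∈ Finset.range m, (if Even i then q ^ (i + 1) + 1 else q ^ (i + 1) - 1) := by
      have h0 := pow_dvd_prod (p := p) (d := d) (fun j => if Even j then q ^ j - 1 else q ^ j + 1) (fun k _ => ?_) m
      · refine h0.trans (dvd_of_eq (Finset.prod_congr rfl fun i _ => ?_))
        by_cases hi : Even i
        · rw [if_pos hi, if_neg (Nat.not_even_iff_odd.2 hi.add_one)]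
        · rw [if_neg hi, if_pos (Nat.not_even_iff_odd.1 hi).add_one]
      · have h9 : (-(q : ZMod p)) ^ (d * k) = 1 := by rw [pow_mul, hd1, one_pow]
        split_ifs with hi
        · apply dvd_sub_one_of_pow hq1
          rwa [hi.neg_pow] at h9
        · apply dvd_add_one_of_pow
          rw [(Nat.not_even_iff_odd.1 hi).neg_pow] at h9
          rw [← h9, neg_neg]
    have h2 : p ^ (m / d) ∣ (Nat.gcd m (q + 1)) * ((q + 1) * Nat.card S) := by
      rw [hcard]
      exact h1.mul_left _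
    have h3 : p ^ (m / d) ∣ Nat.card S := by
      have hc : (p ^ (m / d)).Coprime (q + 1) := Nat.Coprime.pow_left _ ((Nat.Prime.coprime_iff_not_dvd hp.out).2 hpq)
      have hc' : (p ^ (m / d)).Coprime (Nat.gcd m (q + 1)) := Nat.Coprime.coprime_dvd_right (Nat.gcd_dvd_right _ _) hc
      exact hc.dvd_of_dvd_mul_left (hc'.dvd_of_dvd_mul_left h2)
    have h4 := s.le_of_dvd h3
    have h5 : d ≤ p - 1 := Nat.le_of_dvd (by omega) hd
    have h6 : m < (n + 1) * d := (Nat.div_lt_iff_lt_mul hd0).1 (by omega)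
    have h7 : (n + 1) * d ≤ (n + 1) * (p - 1) := Nat.mul_le_mul_left _ h5
    omega

/-- Defining characteristic. -/
theorem psu_defining [hp : Fact p.Prime] (s : Sit p n t S) {F : Type*} [Field F] [Fintype F] {m q : ℕ} (hm : 3 ≤ m)
    (hF : Fintype.card F = q ^ 2) (hpF : p ∣ q) (e : S ≃* PSU m F q) : False := by
  have hq1 : 1 < q := by
    have := Fintype.one_lt_card (α := F)
    rw [hF] at this
    by_contra h
    interval_cases q <;> omega
  obtain ⟨f, hf⟩ : ∃ f, q = p ^ f := by
    obtain ⟨f, -, hf, -⟩ := exists_card (p := p) (F := F) (by rw [hF]; exact dvd_pow hpF two_ne_zero)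
    have h1 : q ∣ p ^ f := by
      rw [← hf, hF]
      exact dvd_pow_self _ two_ne_zero
    obtain ⟨k, -, hk⟩ := (Nat.dvd_prime_pow hp.out).1 h1
    exact ⟨k, hk⟩
  have hf1 : 1 ≤ f := by
    by_contra h
    have h0 : f = 0 := by omega
    rw [hf, h0, pow_zero] at hq1
    omega
  have hcard := S0280.result hF m (by omega)
  rw [← Nat.card_congr e.toEquiv] at hcard
  have hs1 : ¬ p ∣ q + 1 := by simpa using not_dvd_add_one hp.out hpF (le_refl 1)
  have hc : ¬ p ∣ Nat.gcd m (q + 1) * (q + 1) := by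
    intro h
    rcases (Nat.Prime.dvd_mul hp.out).1 h with h | h
    · exact hs1 (h.trans (Nat.gcd_dvd_right _ _))
    · exact hs1 h
  have hB : ¬ p ∣ ∏ i ∈ Finset.range m, (if Even i then q ^ (i + 1) + 1 else q ^ (i + 1) - 1) := by
    rw [Prime.dvd_finsetProd_iff hp.out.prime]
    rintro ⟨i, -, h⟩
    split_ifs at h
    · exact not_dvd_add_one hp.out hpF (by omega) h
    · exact not_dvd_sub hp.out hpF hq1.le (by omega) h
  have h0 : Nat.gcd m (q + 1) * (q + 1) * Nat.card S =
      p ^ (f * (m * (m - 1) / 2)) * ∏ i ∈ Finset.range m, (if Even i then q ^ (i + 1) + 1 else q ^ (i + 1) - 1) := by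
    rw [mul_assoc, hcard]
    congr 1
    rw [hf, ← pow_mul]
  have hn := s.eq_of_card h0 hc hB
  obtain ⟨r, hr, h1, h2, h3⟩ := s.exists_prime h0
  rw [Prime.dvd_finsetProd_iff hr.prime] at h1
  obtain ⟨i, hi, h4⟩ := h1
  rw [Finset.mem_range] at hi
  split_ifs at h4 with he
  · rw [hf, ← pow_mul] at h4
    exact h3 _ h4
  rw [hf, ← pow_mul, h2, hn] at h4
  have h5 : m * (m - 1) / 2 ∣ i + 1 := Nat.dvd_of_mul_dvd_mul_left (by omega) h4
  have h6 := Nat.le_of_dvd (by omega) h5
  have h7 : m ≤ 3 := by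
    by_contra h8
    have h9 : m * 3 ≤ m * (m - 1) := Nat.mul_le_mul_left _ (by omega)
    omega
  obtain rfl : m = 3 := by omega
  have h8 : i = 2 := by omega
  subst h8
  exact he (by decide)

end Cfsg.Agent.H634.El
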