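import Mathlib

/-!
# Semiregular automizers and the dimension of modules

`Dat p t X` : the group `X` has a commutative `p`-subgroup `P ≠ 1` and `t` elements normalizing `P` any two of
which act differently on every nontrivial element of `P`. Then faithful modules of `X` in characteristic
different from `p` have dimension at least `t`.
-/

set_option autoImplicit false

namespace Cfsg.Agent.H634.Dim

/-- A commutative `p`-subgroup `P ≠ 1` and `t` elements normalizing `P`, any two of which act differently on
every nontrivial element of `P`. -/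
def Dat (p t : ℕ) (X : Type*) [Group X] : Prop :=
  ∃ (P : Subgroup X) (f : Fin t → X), IsPGroup p P ∧ P ≠ ⊥ ∧ (∀ a ∈ P, ∀ b ∈ P, a * b = b * a) ∧
    (∀ i, ∀ x ∈ P, f i * x * (f i)⁻¹ ∈ P) ∧
    ∀ i j, i ≠ j → ∀ x ∈ P, f i * x * (f i)⁻¹ = f j * x * (f j)⁻¹ → x = 1

/-- a minimal invariant subspace of a commuting family over an algebraically closed field: scalars -/
theorem exists_scalar {K V : Type*} [Field K] [IsAlgClosed K] [AddCommGroup V] [Module K V]
    [FiniteDimensional K V] {J : Type*} (R : J → Module.End K V)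
    (hc : ∀ i j, R i * R j = R j * R i) (W : Submodule K V) (hW : W ≠ ⊥)
    (hRW : ∀ j, ∀ w ∈ W, R j w ∈ W) :
    ∃ v ∈ W, v ≠ 0 ∧ ∀ j, ∃ c : K, R j v = c • v := by
  classical
  let 𝒮 : Set (Submodule K V) := {U | U ≠ ⊥ ∧ U ≤ W ∧ ∀ j, ∀ w ∈ U, R j w ∈ U}
  obtain ⟨U, hU, hmin⟩ := (wellFounded_lt (α := Submodule K V)).has_min 𝒮 ⟨W, hW, le_rfl, hRW⟩
  obtain ⟨hU0, hUW, hRU⟩ := hU
  have hscal : ∀ j, ∃ c : K, ∀ u ∈ U, R j u = c • u := by
    intro j
    let T : Module.End K U := (R j).restrict (hRU j)
    have hnt : Nontrivial U := Submodule.nontrivial_iff_ne_bot.2 hU0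
    obtain ⟨c, hcT⟩ := Module.End.exists_eigenvalue T
    refine ⟨c, ?_⟩
    let U' : Submodule K V := U ⊓ (R j).eigenspace c
    have hU' : U' ∈ 𝒮 := by
      refine ⟨?_, inf_le_left.trans hUW, ?_⟩
      · obtain ⟨u, hu, hu0⟩ := hcT.exists_hasEigenvector
        intro h0
        have h1 : (u : V) ∈ U' := by
          refine ⟨u.2, ?_⟩
          show (u : V) ∈ (R j).eigenspace c
          rw [Module.End.mem_eigenspace_iff]
          have := Module.End.mem_eigenspace_iff.1 hu
          exact congrArg Subtype.val this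
        rw [h0, Submodule.mem_bot] at h1
        exact hu0 (Subtype.ext h1)
      · intro i w hw
        refine ⟨hRU i w hw.1, ?_⟩
        show R i w ∈ (R j).eigenspace c
        have h1 : R j w = c • w := Module.End.mem_eigenspace_iff.1 hw.2
        rw [Module.End.mem_eigenspace_iff]
        have h2 : R j (R i w) = R i (R j w) := LinearMap.congr_fun (hc j i) w
        rw [h2, h1, map_smul]
    have h1 : ¬ U' < U := hmin U' hU'
    have h2 : U' = U := by
      by_contra hne
      exact h1 (lt_of_le_of_ne inf_le_left hne)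
    intro u hu
    rw [← h2] at hu
    exact Module.End.mem_eigenspace_iff.1 hu.2
  obtain ⟨v, hvU, hv0⟩ := Submodule.exists_mem_ne_zero_of_ne_bot hU0
  exact ⟨v, hUW hvU, hv0, fun j => by
    obtain ⟨c, hc⟩ := hscal j
    exact ⟨c, hc v hvU⟩⟩

/-- Over an algebraically closed field. -/
theorem le_card_aux {X : Type*} [Group X] [Finite X] {p t : ℕ} (h : Dat p t X) {K ι : Type*} [Field K]
    [IsAlgClosed K] [Fintype ι] [DecidableEq ι] (hpK : (p : K) ≠ 0)
    (R : X →* Module.End K (ι → K)) (hR : Function.Injective R) : t ≤ Fintype.card ι := by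
  classical
  obtain ⟨P, f, hP, hP1, hcomm, hnorm, hfree⟩ := h
  obtain ⟨⟨x0, hx0⟩, hx01⟩ := Subgroup.ne_bot_iff_exists_ne_one.1 hP1
  have hx01' : x0 ≠ 1 := fun h => hx01 (Subtype.ext h)
  obtain ⟨k, hk⟩ := hP ⟨x0, hx0⟩
  have hk' : x0 ^ (p ^ k) = 1 := congrArg Subtype.val hk
  set T : Module.End K (ι → K) := R x0 with hT
  have hTpow : T ^ (p ^ k) = 1 := by rw [hT, ← map_pow, hk', map_one]
  have hTne : T ≠ 1 := fun h => hx01' (hR (by rw [map_one]; exact h))
  let Q : P → Module.End K (ι → K) := fun x => R x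
  have hQ : ∀ i j, Q i * Q j = Q j * Q i := fun i j => by
    change R i * R j = R j * R i
    rw [← map_mul, ← map_mul, hcomm i i.2 j j.2]
  -- the image of `T - 1`
  let W : Submodule K (ι → K) := LinearMap.range (T - 1)
  have hW : W ≠ ⊥ := by
    intro h0
    apply hTne
    rw [← sub_eq_zero]
    exact LinearMap.range_eq_bot.1 h0
  have hQW : ∀ j, ∀ w ∈ W, Q j w ∈ W := by
    rintro j _ ⟨u, rfl⟩
    refine ⟨Q j u, ?_⟩
    have h1 : Q j * T = T * Q j := hQ j ⟨x0, hx0⟩
    have h2 : Q j (T u) = T (Q j u) := LinearMap.congr_fun h1 u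
    simp only [LinearMap.sub_apply, Module.End.one_apply, map_sub]
    rw [h2]
  obtain ⟨v, hvW, hv0, hv⟩ := exists_scalar Q hQ W hW hQW
  choose χ hχ using hv
  -- `χ x0 ≠ 1`
  have hχ0 : χ ⟨x0, hx0⟩ ≠ 1 := by
    intro h1
    obtain ⟨u, hu⟩ := hvW
    have hTv : T v = v := by
      have := hχ ⟨x0, hx0⟩
      rw [h1, one_smul] at this
      exact this
    have hTpv : ∀ i : ℕ, (T ^ i) v = v := by
      intro i
      induction i with
      | zero => rfl
      | succ i ih => rw [pow_succ, Module.End.mul_apply, hTv, ih]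
    have h2 : (∑ i ∈ Finset.range (p ^ k), T ^ i) * (T - 1) = 0 := by
      rw [geom_sum_mul, hTpow, sub_self]
    have h3 : (∑ i ∈ Finset.range (p ^ k), T ^ i) v = 0 := by
      rw [← hu]
      exact LinearMap.congr_fun h2 u
    rw [LinearMap.sum_apply, Finset.sum_congr rfl fun i _ => hTpv i, Finset.sum_const,
      Finset.card_range] at h3
    have h4 : ((p : K) ^ k) • v = 0 := by
      rw [← h3, ← Nat.cast_pow, Nat.cast_smul_eq_nsmul]
    rcases smul_eq_zero.1 h4 with h5 | h5
    · exact pow_ne_zero k hpK h5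
    · exact hv0 h5
  -- `χ` is a homomorphism
  have hsm : ∀ {a b : K}, a • v = b • v → a = b := by
    intro a b hab
    have : (a - b) • v = 0 := by rw [sub_smul, hab, sub_self]
    rcases smul_eq_zero.1 this with h | h
    · exact sub_eq_zero.1 h
    · exact absurd h hv0
  let χh : P →* K :=
    { toFun := χ
      map_one' := by
        apply hsm
        rw [← hχ 1, one_smul]
        change R 1 v = v
        rw [map_one]; rfl
      map_mul' := fun a b => by
        apply hsm
        rw [← hχ (a * b)]
        change R ((a : X) * b) v = _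
        rw [map_mul, Module.End.mul_apply]
        have hb : R (b : X) v = χ b • v := hχ b
        have ha : R (a : X) v = χ a • v := hχ a
        rw [hb, map_smul, ha, smul_smul, mul_comm] }
  -- conjugates
  let cj : Fin t → P →* P := fun i =>
    { toFun := fun x => ⟨f i * x * (f i)⁻¹, hnorm i x x.2⟩
      map_one' := by
        apply Subtype.ext
        change f i * 1 * (f i)⁻¹ = 1
        group
      map_mul' := fun a b => by
        apply Subtype.ext
        change f i * (a * b) * (f i)⁻¹ = (f i * a * (f i)⁻¹) * (f i * b * (f i)⁻¹)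
        group }
  have hinj : Function.Injective fun i => χh.comp (cj i) := by
    intro i j hij
    by_contra hne
    -- `x ↦ x^{f i} (x^{f j})⁻¹` is injective on `P`
    let d : P →* P :=
      { toFun := fun x => cj i x * (cj j x)⁻¹
        map_one' := by simp
        map_mul' := fun a b => by
          have hPc : ∀ a b : P, a * b = b * a := fun a b => Subtype.ext (hcomm a a.2 b b.2)
          rw [map_mul, map_mul, mul_inv_rev]
          calc cj i a * cj i b * ((cj j b)⁻¹ * (cj j a)⁻¹)
              = cj i a * ((cj i b * (cj j b)⁻¹) * (cj j a)⁻¹) := by group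
            _ = cj i a * ((cj j a)⁻¹ * (cj i b * (cj j b)⁻¹)) := by rw [hPc (cj i b * (cj j b)⁻¹)]
            _ = _ := by group }
    have hd : Function.Injective d := by
      rw [injective_iff_map_eq_one]
      intro x hx
      have h1 : cj i x = cj j x := by
        rw [← mul_inv_eq_one]
        exact hx
      apply Subtype.ext
      exact hfree i j hne x x.2 (congrArg Subtype.val h1)
    have hds : Function.Surjective d := Finite.surjective_of_injective hd
    apply hχ0
    obtain ⟨x, hx⟩ := hds ⟨x0, hx0⟩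
    have h1 : χh (cj i x) = χh (cj j x) := DFunLike.congr_fun hij x
    have h2 : χh (cj j x) * χh (cj j x)⁻¹ = 1 := by rw [← map_mul, mul_inv_cancel, map_one]
    have h3 : χh (d x) = 1 := by
      change χh (cj i x * (cj j x)⁻¹) = 1
      rw [map_mul, h1, h2]
    rw [hx] at h3
    exact h3
  have hli : LinearIndependent K fun i => ((χh.comp (cj i) : P →* K) : P → K) :=
    (linearIndependent_monoidHom P K).comp _ hinj
  -- the conjugate vectors
  let w : Fin t → (ι → K) := fun i => R (f i)⁻¹ v
  have hw : ∀ i (x : P), R (x : X) (w i) = χh (cj i x) • w i := by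
    intro i x
    change R (x : X) (R (f i)⁻¹ v) = _
    have h1 : (x : X) * (f i)⁻¹ = (f i)⁻¹ * (cj i x : P) := by
      change (x : X) * (f i)⁻¹ = (f i)⁻¹ * (f i * x * (f i)⁻¹)
      group
    rw [← Module.End.mul_apply, ← map_mul, h1, map_mul, Module.End.mul_apply]
    have h2 : R ((cj i x : P) : X) v = χ (cj i x) • v := hχ (cj i x)
    rw [h2, map_smul]
    rfl
  have hw0 : ∀ i, w i ≠ 0 := by
    intro i h0
    apply hv0
    have h1 : R (f i) (w i) = v := by
      change R (f i) (R (f i)⁻¹ v) = v
      rw [← Module.End.mul_apply, ← map_mul, mul_inv_cancel, map_one]; rfl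
    rw [← h1, h0, map_zero]
  have hlw : LinearIndependent K w := by
    rw [Fintype.linearIndependent_iff]
    intro c hc i
    have h1 : ∀ (x : P), ∑ i, c i • (χh (cj i x) • w i) = 0 := by
      intro x
      have := congrArg (R (x : X)) hc
      rw [map_sum, map_zero] at this
      rw [← this]
      exact Finset.sum_congr rfl fun i _ => by rw [map_smul, hw]
    have h2 : ∀ l : ι, ∀ i, c i * w i l = 0 := by
      intro l
      rw [Fintype.linearIndependent_iff] at hli
      apply hli
      funext x
      have := congrFun (h1 x) l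
      rw [Finset.sum_apply] at this ⊢
      rw [Pi.zero_apply] at this ⊢
      rw [← this]
      refine Finset.sum_congr rfl fun i _ => ?_
      simp only [Pi.smul_apply, smul_eq_mul, MonoidHom.comp_apply]
      ring
    have h3 : ∃ l, w i l ≠ 0 := by
      by_contra hall
      push Not at hall
      exact hw0 i (funext hall)
    obtain ⟨l, hl⟩ := h3
    exact (mul_eq_zero.1 (h2 l i)).resolve_right hl
  have := hlw.fintype_card_le_finrank
  simpa using this

/-- **The dimension of a faithful module in characteristic different from `p` is at least `t`.** -/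
theorem le_card {X : Type*} [Group X] [Finite X] {p t : ℕ} (h : Dat p t X) {F ι : Type*} [Field F]
    [Fintype ι] [DecidableEq ι] (hpF : (p : F) ≠ 0) (ρ : X →* Matrix ι ι F)
    (hρ : Function.Injective ρ) : t ≤ Fintype.card ι := by
  let K := AlgebraicClosure F
  let R : X →* Module.End K (ι → K) :=
    ((Matrix.toLinAlgEquiv' : Matrix ι ι K ≃ₐ[K] Module.End K (ι → K)) :
      Matrix ι ι K →* Module.End K (ι → K)).comp
      (((algebraMap F K).mapMatrix : Matrix ι ι F →+* Matrix ι ι K).toMonoidHom.comp ρ)
  refine le_card_aux h (K := K) ?_ R ?_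
  · intro h0
    apply hpF
    apply (algebraMap F K).injective
    rw [map_natCast, h0, map_zero]
  · intro a b hab
    apply hρ
    have h1 := (Matrix.toLinAlgEquiv' : Matrix ι ι K ≃ₐ[K] Module.End K (ι → K)).injective hab
    exact Matrix.map_injective (algebraMap F K).injective h1

theorem Dat.of_le {p t t' : ℕ} {X : Type*} [Group X] (h : Dat p t X) (ht : t' ≤ t) : Dat p t' X := by
  obtain ⟨P, f, hP, hP1, hcomm, hnorm, hfree⟩ := h
  refine ⟨P, fun i => f (Fin.castLE ht i), hP, hP1, hcomm, fun i => hnorm _, fun i j hij => ?_⟩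
  exact hfree _ _ (fun h => hij (Fin.castLE_injective ht h))

theorem Dat.congr {p t : ℕ} {X Y : Type*} [Group X] [Group Y] (h : Dat p t X) (e : X ≃* Y) :
    Dat p t Y := by
  obtain ⟨P, f, hP, hP1, hcomm, hnorm, hfree⟩ := h
  refine ⟨P.map e.toMonoidHom, fun i => e (f i), hP.map _, ?_, ?_, ?_, ?_⟩
  · intro h0
    exact hP1 ((Subgroup.map_eq_bot_iff_of_injective _ e.injective).1 h0)
  · rintro _ ⟨a, ha, rfl⟩ _ ⟨b, hb, rfl⟩
    change e a * e b = e b * e a
    rw [← map_mul, hcomm a ha b hb, map_mul]
  · rintro i _ ⟨a, ha, rfl⟩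
    refine ⟨f i * a * (f i)⁻¹, hnorm i a ha, ?_⟩
    change e _ = e (f i) * e a * (e (f i))⁻¹
    rw [map_mul, map_mul, map_inv]
  · rintro i j hij _ ⟨a, ha, rfl⟩ h1
    change e (f i) * e a * (e (f i))⁻¹ = e (f j) * e a * (e (f j))⁻¹ at h1
    change e a = 1
    rw [← map_inv, ← map_mul, ← map_mul, ← map_inv, ← map_mul, ← map_mul] at h1
    rw [hfree i j hij a ha (e.injective h1), map_one]

/-- Lifting through a central kernel of order prime to `p`. -/
theorem Dat.lift {p t : ℕ} [hp : Fact p.Prime] {X S : Type*} [Group X] [Finite X] [Group S]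
    (h : Dat p t S) (π : X →* S) (hπ : Function.Surjective π) (hk : π.ker ≤ Subgroup.center X)
    (hpk : ¬ p ∣ Nat.card π.ker) : Dat p t X := by
  obtain ⟨P, f, hP, hP1, hcomm, hnorm, hfree⟩ := h
  let M : Subgroup X := P.comap π
  obtain ⟨Q⟩ : Nonempty (Sylow p M) := inferInstance
  let P' : Subgroup X := (Q : Subgroup M).map M.subtype
  have hP'M : P' ≤ M := Subgroup.map_subtype_le _
  have hP'p : IsPGroup p P' := Q.isPGroup'.map _
  -- `p`-elements of the kernel are trivial
  have hker : ∀ z : X, π z = 1 → (∃ k : ℕ, z ^ p ^ k = 1) → z = 1 := by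
    rintro z hz ⟨k, hk⟩
    have h1 : orderOf z ∣ p ^ k := orderOf_dvd_of_pow_eq_one hk
    have h2 : orderOf z ∣ Nat.card π.ker := by
      have := orderOf_dvd_natCard (⟨z, hz⟩ : π.ker)
      rwa [← Subgroup.orderOf_coe] at this
    have h3 : (p ^ k).Coprime (Nat.card π.ker) :=
      Nat.Coprime.pow_left _ ((Nat.Prime.coprime_iff_not_dvd hp.out).2 hpk)
    have h4 := Nat.eq_one_of_dvd_coprimes h3 h1 h2
    exact orderOf_eq_one_iff.1 h4
  -- `P'` maps onto `P`
  have hmap : P'.map π = P := by
    let g : M →* P := π.subgroupComap P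
    have hg : Function.Surjective g := by
      rintro ⟨y, hy⟩
      obtain ⟨x, hx⟩ := hπ y
      refine ⟨⟨x, ?_⟩, Subtype.ext hx⟩
      show π x ∈ P
      rw [hx]; exact hy
    have hfin : Finite P := Finite.of_surjective g hg
    have h1 : ((Q.mapSurjective hg : Sylow p P) : Subgroup P) = ⊤ := by
      have h2 : IsPGroup p (⊤ : Subgroup P) := hP.to_subgroup _
      exact ((Q.mapSurjective hg).3 h2 le_top).symm
    have h2 : (Q : Subgroup M).map g = ⊤ := h1
    apply le_antisymm
    · rintro _ ⟨x, hx, rfl⟩
      exact hP'M hx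
    · intro y hy
      have h3 : (⟨y, hy⟩ : P) ∈ (Q : Subgroup M).map g := by rw [h2]; trivial
      obtain ⟨x, hx, hxy⟩ := h3
      exact ⟨x.1, ⟨x, hx, rfl⟩, congrArg Subtype.val hxy⟩
  -- the `p`-elements of `M` lie in `P'`
  have hpel : ∀ x : X, π x ∈ P → (∃ k : ℕ, x ^ p ^ k = 1) → x ∈ P' := by
    rintro x hx ⟨k, hk'⟩
    rw [← hmap] at hx
    obtain ⟨y, hy, hyx⟩ := hx
    have hz : π (x * y⁻¹) = 1 := by
      rw [map_mul, map_inv, ← hyx, mul_inv_cancel]
    have hzc : ∀ g : X, g * (x * y⁻¹) = (x * y⁻¹) * g :=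
      Subgroup.mem_center_iff.1 (hk hz)
    obtain ⟨j, hj⟩ := hP'p ⟨y, hy⟩
    have hj' : y ^ p ^ j = 1 := congrArg Subtype.val hj
    have h1 : x * y⁻¹ = 1 := by
      apply hker _ hz
      refine ⟨k + j, ?_⟩
      have hcm : Commute (x * y⁻¹) y := (hzc y).symm
      have h2 : (x * y⁻¹ * y) ^ p ^ (k + j) = 1 := by
        rw [inv_mul_cancel_right, pow_add, pow_mul, hk', one_pow]
      rw [hcm.mul_pow] at h2
      have h3 : y ^ p ^ (k + j) = 1 := by rw [pow_add, mul_comm, pow_mul, hj', one_pow]
      rwa [h3, mul_one] at h2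
    rw [mul_inv_eq_one] at h1
    rw [h1]; exact hy
  choose g hg using fun i => hπ (f i)
  refine ⟨P', g, hP'p, ?_, ?_, ?_, ?_⟩
  · intro h0
    apply hP1
    rw [← hmap, h0, Subgroup.map_bot]
  · intro a ha b hb
    have h1 : a * b * a⁻¹ * b⁻¹ = 1 := by
      apply hker
      · have ha' : π a ∈ P := hP'M ha
        have hb' : π b ∈ P := hP'M hb
        rw [map_mul, map_mul, map_mul, map_inv, map_inv, hcomm _ ha' _ hb']
        group
      · have hm : a * b * a⁻¹ * b⁻¹ ∈ P' :=
          P'.mul_mem (P'.mul_mem (P'.mul_mem ha hb) (P'.inv_mem ha)) (P'.inv_mem hb)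
        obtain ⟨j, hj⟩ := hP'p ⟨_, hm⟩
        exact ⟨j, congrArg Subtype.val hj⟩
    calc a * b = (a * b * a⁻¹ * b⁻¹) * (b * a) := by group
      _ = b * a := by rw [h1, one_mul]
  · intro i x hx
    apply hpel
    · rw [map_mul, map_mul, map_inv, hg]
      exact hnorm i _ (hP'M hx)
    · obtain ⟨j, hj⟩ := hP'p ⟨x, hx⟩
      have hj' : x ^ p ^ j = 1 := congrArg Subtype.val hj
      exact ⟨j, by rw [conj_pow, hj']; group⟩
  · intro i j hij x hx h1
    have h2 : π x = 1 := by
      apply hfree i j hij _ (hP'M hx)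
      have := congrArg π h1
      rwa [map_mul, map_mul, map_inv, map_mul, map_mul, map_inv, hg, hg] at this
    obtain ⟨j, hj⟩ := hP'p ⟨x, hx⟩
    exact hker x h2 ⟨j, congrArg Subtype.val hj⟩

/-- The form used for the classical groups, the centre being of order prime to `p`. -/
theorem le_card_of_center {p t : ℕ} [hp : Fact p.Prime] {X S : Type*} [Group X] [Finite X] [Group S]
    (h : Dat p t S) (e : S ≃* X ⧸ Subgroup.center X) (hpk : ¬ p ∣ Nat.card (Subgroup.center X))
    {F ι : Type*} [Field F] [Fintype ι] [DecidableEq ι] (hpF : (p : F) ≠ 0) (ρ : X →* Matrix ι ι F)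
    (hρ : Function.Injective ρ) : t ≤ Fintype.card ι := by
  refine le_card ((h.congr e).lift (QuotientGroup.mk' (Subgroup.center X))
    (QuotientGroup.mk'_surjective _) ?_ ?_) hpF ρ hρ
  · rw [QuotientGroup.ker_mk']
  · rwa [QuotientGroup.ker_mk']

theorem le_finrank {X : Type*} [Group X] [Finite X] {p t : ℕ} (h : Dat p t X) {F V : Type*} [Field F]
    [AddCommGroup V] [Module F V] [FiniteDimensional F V] (hpF : (p : F) ≠ 0)
    (R : X →* Module.End F V) (hR : Function.Injective R) : t ≤ Module.finrank F V := by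
  classical
  let b := Module.finBasis F V
  let ρ : X →* Matrix (Fin (Module.finrank F V)) (Fin (Module.finrank F V)) F :=
    { toFun := fun x => LinearMap.toMatrixAlgEquiv b (R x)
      map_one' := by rw [map_one, map_one]
      map_mul' := fun x y => by rw [map_mul, map_mul] }
  have h1 := le_card h hpF ρ fun x y hxy => hR ((LinearMap.toMatrixAlgEquiv b).injective hxy)
  simpa using h1

/-- The conjugation action on matrices: the form used for the classical groups in general. -/
theorem le_sq_of_center {p t : ℕ} {X S : Type*} [Group X] [Finite X] [Group S]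
    (h : Dat p t S) (e : S ≃* X ⧸ Subgroup.center X)
    {F ι : Type*} [Field F] [Fintype ι] [DecidableEq ι] (hpF : (p : F) ≠ 0) (ρ : X →* Matrix ι ι F)
    (hρ : Function.Injective ρ) : t ≤ Fintype.card ι * Fintype.card ι := by
  classical
  -- the conjugation action on the span of the image
  let U : Submodule F (Matrix ι ι F) := Submodule.span F (Set.range ρ)
  have hU : ∀ (x : X) (N : Matrix ι ι F), N ∈ U → ρ x * N * ρ x⁻¹ ∈ U := by
    intro x N hN
    induction hN using Submodule.span_induction with
    | mem N hN =>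
      obtain ⟨y, rfl⟩ := hN
      rw [← map_mul, ← map_mul]
      exact Submodule.subset_span ⟨_, rfl⟩
    | zero => rw [mul_zero, zero_mul]; exact U.zero_mem
    | add a b _ _ ha hb => rw [mul_add, add_mul]; exact U.add_mem ha hb
    | smul c a _ ha => rw [mul_smul_comm, smul_mul_assoc]; exact U.smul_mem c ha
  let A : X →* Module.End F U :=
    { toFun := fun x =>
        { toFun := fun N => ⟨ρ x * N * ρ x⁻¹, hU x N N.2⟩
          map_add' := fun a b => by
            apply Subtype.ext
            simp [mul_add, add_mul]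
          map_smul' := fun c a => by
            apply Subtype.ext
            simp }
      map_one' := by
        apply LinearMap.ext
        intro N
        apply Subtype.ext
        change ρ 1 * (N : Matrix ι ι F) * ρ 1⁻¹ = N
        rw [inv_one, map_one, one_mul, mul_one]
      map_mul' := fun x y => by
        apply LinearMap.ext
        intro N
        apply Subtype.ext
        change ρ (x * y) * (N : Matrix ι ι F) * ρ (x * y)⁻¹ = ρ x * (ρ y * N * ρ y⁻¹) * ρ x⁻¹
        rw [mul_inv_rev, map_mul, map_mul]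
        simp only [mul_assoc] }
  have hA : ∀ x (N : U), ((A x N : U) : Matrix ι ι F) = ρ x * N * ρ x⁻¹ := fun x N => rfl
  have hker : A.ker = Subgroup.center X := by
    ext z
    rw [MonoidHom.mem_ker, Subgroup.mem_center_iff]
    constructor
    · intro hz y
      apply hρ
      have h1 := hA z ⟨ρ y, Submodule.subset_span ⟨y, rfl⟩⟩
      rw [hz] at h1
      change ρ y = ρ z * ρ y * ρ z⁻¹ at h1
      rw [map_mul, map_mul]
      have h2 : ρ z⁻¹ * ρ z = 1 := by rw [← map_mul, inv_mul_cancel, map_one]
      calc ρ y * ρ z = ρ z * ρ y * ρ z⁻¹ * ρ z := by rw [← h1]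
        _ = ρ z * ρ y * (ρ z⁻¹ * ρ z) := by rw [mul_assoc]
        _ = ρ z * ρ y := by rw [h2, mul_one]
    · intro hz
      apply LinearMap.ext
      intro N
      apply Subtype.ext
      rw [hA]
      change _ = (N : Matrix ι ι F)
      have h1 : ∀ N ∈ U, ρ z * N = N * ρ z := by
        intro N hN
        induction hN using Submodule.span_induction with
        | mem N hN =>
          obtain ⟨y, rfl⟩ := hN
          rw [← map_mul, ← map_mul, hz y]
        | zero => rw [mul_zero, zero_mul]
        | add a b _ _ ha hb => rw [mul_add, add_mul, ha, hb]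
        | smul c a _ ha => rw [mul_smul_comm, smul_mul_assoc, ha]
      rw [h1 N N.2, mul_assoc, ← map_mul, mul_inv_cancel, map_one, mul_one]
  let B : X ⧸ Subgroup.center X →* Module.End F U :=
    QuotientGroup.lift _ A (fun z hz => by
      have : z ∈ A.ker := by rw [hker]; exact hz
      exact this)
  have hB : Function.Injective B := by
    rw [injective_iff_map_eq_one]
    intro x
    induction x using QuotientGroup.induction_on with
    | H x =>
      intro hx
      rw [QuotientGroup.eq_one_iff]
      have : x ∈ A.ker := hx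
      rwa [hker] at this
  have h1 := le_finrank (h.congr e) hpF B hB
  refine h1.trans ?_
  have h2 : Module.finrank F U ≤ Module.finrank F (Matrix ι ι F) := Submodule.finrank_le U
  rw [Module.finrank_matrix, Module.finrank_self, mul_one] at h2
  exact h2

end Cfsg.Agent.H634.Dim
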