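import Mathlib
import Cfsg.Agent.H634.ZJ
import Cfsg.Agent.H634.Dim

/-!
# Groups with `p`-nilpotent centralizers, abelian Sylow `p`-subgroups and at most two classes of `p`-elements
-/

set_option autoImplicit false

open Cfsg

namespace Cfsg.Agent.H634.HypS

open Cfsg.Agent.H634.ZJ Cfsg.Agent.H634.Dim

/-- `x` is a `p`-element. -/
def PEl (p : ℕ) {G : Type*} [Group G] (x : G) : Prop := ∃ k : ℕ, orderOf x = p ^ k

/-- The situation of the elimination. -/
structure Hyp (p n : ℕ) (S : Type*) [Group S] : Prop where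
  nil : NilCent p S
  two : ∀ x y z : S, PEl p x → x ≠ 1 → PEl p y → y ≠ 1 → PEl p z → z ≠ 1 →
    IsConj x y ∨ IsConj y z ∨ IsConj x z
  comm : ∀ Q : Subgroup S, IsPGroup p Q → ∀ a ∈ Q, ∀ b ∈ Q, a * b = b * a
  exp : ∀ x : S, PEl p x → x ^ p = 1
  dvd : p ^ n ∣ Nat.card S
  max : ¬ p ^ (n + 1) ∣ Nat.card S

variable {S : Type*} [Group S] {p n : ℕ}

theorem PEl.of_mem [Fact p.Prime] {P : Subgroup S} (hP : IsPGroup p P) {x : S} (hx : x ∈ P) :
    PEl p x := by
  obtain ⟨k, hk⟩ := (IsPGroup.iff_orderOf.1 hP) ⟨x, hx⟩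
  exact ⟨k, by rw [← hk, ← Subgroup.orderOf_coe]⟩

theorem PEl.map {T : Type*} [Group T] {x : S} (hx : PEl p x) (hp : p.Prime) (f : S →* T) :
    PEl p (f x) := by
  obtain ⟨k, hk⟩ := hx
  obtain ⟨j, -, hj⟩ := (Nat.dvd_prime_pow hp).1 (hk ▸ orderOf_map_dvd f x)
  exact ⟨j, hj⟩

theorem PEl.of_injective {T : Type*} [Group T] {x : S} (f : S →* T) (hf : Function.Injective f)
    (hx : PEl p (f x)) : PEl p x := by
  obtain ⟨k, hk⟩ := hx
  exact ⟨k, by rw [← hk, orderOf_injective f hf]⟩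

theorem PEl.conj {x : S} (hx : PEl p x) (g : S) : PEl p (g * x * g⁻¹) := by
  obtain ⟨k, hk⟩ := hx
  exact ⟨k, by rw [← hk]; exact MulEquiv.orderOf_eq (MulAut.conj g) x⟩

theorem PEl.isPGroup [Fact p.Prime] {x : S} (hx : PEl p x) : IsPGroup p (Subgroup.zpowers x) := by
  obtain ⟨k, hk⟩ := hx
  apply IsPGroup.of_card (n := k)
  rw [Nat.card_zpowers, hk]

theorem PEl.exists_sylow [Finite S] [Fact p.Prime] {x : S} (hx : PEl p x) : ∃ P : Sylow p S, x ∈ P := by
  obtain ⟨P, hP⟩ := hx.isPGroup.exists_le_sylow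
  exact ⟨P, hP (Subgroup.mem_zpowers x)⟩

theorem PEl.of_pow [hp : Fact p.Prime] {x : S} (hx : x ^ p = 1) : PEl p x := by
  obtain ⟨k, -, hk⟩ := (Nat.dvd_prime_pow hp.out).1
    (orderOf_dvd_of_pow_eq_one (n := p ^ 1) (by rw [pow_one]; exact hx))
  exact ⟨k, hk⟩

theorem isConj_map {T : Type*} [Group T] (f : S →* T) {x y : S} (h : IsConj x y) :
    IsConj (f x) (f y) := by
  obtain ⟨c, hc⟩ := isConj_iff.1 h
  rw [← hc, map_mul, map_mul, map_inv]
  exact isConj_iff.2 ⟨f c, rfl⟩

namespace Hyp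

theorem congr [Finite S] [hp : Fact p.Prime] (h : Hyp p n S) {T : Type*} [Group T] (e : S ≃* T) :
    Hyp p n T := by
  have hfin : Finite T := Finite.of_equiv S e.toEquiv
  have hpel : ∀ x : T, PEl p x → PEl p (e.symm x) := fun x hx => hx.map hp.out e.symm.toMonoidHom
  have hne : ∀ x : T, x ≠ 1 → e.symm x ≠ 1 := fun x hx h0 => hx (by
    rw [← e.apply_symm_apply x, h0, map_one])
  have hcj : ∀ x y : T, IsConj (e.symm x) (e.symm y) → IsConj x y := by
    intro x y hxy
    have := isConj_map e.toMonoidHom hxy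
    simpa using this
  have hcard : Nat.card T = Nat.card S := (Nat.card_congr e.toEquiv).symm
  refine ⟨?_, ?_, ?_, ?_, ?_, ?_⟩
  · exact h.nil.of_injective e.symm.toMonoidHom e.symm.injective
  · intro x y z hx hx1 hy hy1 hz hz1
    rcases h.two _ _ _ (hpel x hx) (hne x hx1) (hpel y hy) (hne y hy1) (hpel z hz) (hne z hz1) with
      h1 | h1 | h1
    · exact Or.inl (hcj _ _ h1)
    · exact Or.inr (Or.inl (hcj _ _ h1))
    · exact Or.inr (Or.inr (hcj _ _ h1))
  · intro Q hQ a ha b hb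
    have h1 := h.comm (Q.map e.symm.toMonoidHom) (hQ.map _) (e.symm a) ⟨a, ha, rfl⟩ (e.symm b)
      ⟨b, hb, rfl⟩
    apply e.symm.injective
    rw [map_mul, map_mul, h1]
  · intro x hx
    apply e.symm.injective
    rw [map_pow, h.exp _ (hpel x hx), map_one]
  · rw [hcard]; exact h.dvd
  · rw [hcard]; exact h.max

variable [Finite S] [hp : Fact p.Prime] (h : Hyp p n S)

include h

theorem orderOf_eq {x : S} (hx : PEl p x) (hx1 : x ≠ 1) : orderOf x = p :=
  orderOf_eq_prime (h.exp x hx) hx1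

theorem card_sylow (P : Sylow p S) : Nat.card P = p ^ n := by
  obtain ⟨k, hk⟩ := P.isPGroup'.exists_card_eq
  have hk' : Nat.card P = p ^ k := hk
  have h1 : Nat.card P = p ^ (Nat.card S).factorization p := P.card_eq_multiplicity
  have h2 : n ≤ (Nat.card S).factorization p :=
    (hp.out.pow_dvd_iff_le_factorization Nat.card_pos.ne').1 h.dvd
  have h3 : ¬ n + 1 ≤ (Nat.card S).factorization p := fun h4 =>
    h.max ((hp.out.pow_dvd_iff_le_factorization Nat.card_pos.ne').2 h4)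
  rw [h1]
  congr 1
  omega

theorem sylow_comm (P : Sylow p S) {a b : S} (ha : a ∈ P) (hb : b ∈ P) : a * b = b * a :=
  h.comm P P.isPGroup' a ha b hb

/-- Burnside: fusion in a Sylow `p`-subgroup is controlled by its normalizer. -/
theorem burnside (P : Sylow p S) {x y : S} (hx : x ∈ P) (hy : y ∈ P) (hxy : IsConj x y) :
    ∃ g ∈ Subgroup.normalizer ((P : Subgroup S) : Set S), g * x * g⁻¹ = y := by
  obtain ⟨c, hc⟩ := isConj_iff.1 hxy
  have hcomm : IsMulCommutative (P : Subgroup S) :=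
    ⟨⟨fun a b => Subtype.ext (h.sylow_comm P a.2 b.2)⟩⟩
  obtain ⟨g, hg, hg1⟩ := P.conj_eq_normalizer_conj_of_mem x c⁻¹ hx (by
    rw [inv_inv, hc]; exact hy)
  refine ⟨g⁻¹, Subgroup.inv_mem _ hg, ?_⟩
  rw [inv_inv, ← hg1, inv_inv, hc]

/-- An element of `N(P)` centralizing a nontrivial element of `P` centralizes `P`. -/
theorem reg (P : Sylow p S) {g : S} (hg : g ∈ Subgroup.normalizer ((P : Subgroup S) : Set S)) {x : S}
    (hx : x ∈ P) (hx1 : x ≠ 1) (hgx : g * x = x * g) {y : S} (hy : y ∈ P) : g * y = y * g := by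
  obtain ⟨u, t, hut, hc, hu, ht, ⟨k, hk⟩, htp⟩ := Blocks.RegularCount.exists_pPart (p := p) g
  have huN : u ∈ Subgroup.normalizer ((P : Subgroup S) : Set S) :=
    (Subgroup.zpowers_le.2 hg) hu
  have htN : t ∈ Subgroup.normalizer ((P : Subgroup S) : Set S) :=
    (Subgroup.zpowers_le.2 hg) ht
  have htx : t * x = x * t := by
    obtain ⟨m, hm⟩ := Subgroup.mem_zpowers_iff.1 ht
    rw [← hm]
    exact (Commute.zpow_left (show Commute g x from hgx) m).eq
  -- the `p`-part lies in `P`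
  have huP : u ∈ P := by
    have h1 : IsPGroup p (Subgroup.zpowers u) := (show PEl p u from ⟨k, hk⟩).isPGroup
    have h2 : Subgroup.zpowers u ≤ Subgroup.normalizer ((P : Subgroup S) : Set S) :=
      Subgroup.zpowers_le.2 huN
    have h3 : IsPGroup p (Subgroup.zpowers u ⊔ (P : Subgroup S) : Subgroup S) :=
      h1.to_sup_of_normal_right' P.isPGroup' h2
    have h4 := P.3 h3 le_sup_right
    have h5 : u ∈ (Subgroup.zpowers u ⊔ (P : Subgroup S) : Subgroup S) :=
      (le_sup_left : Subgroup.zpowers u ≤ _) (Subgroup.mem_zpowers u)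
    rw [h4] at h5
    exact h5
  have hty : t * y = y * t := by
    refine h.nil.commute (PEl.of_mem P.isPGroup' hx) hx1 P.isPGroup'
      (fun a ha => h.sylow_comm P ha hx) htx htp ?_ hy
    intro a ha
    exact (Subgroup.mem_normalizer_iff.1 htN a).1 ha
  rw [← hut, mul_assoc, hty, ← mul_assoc, h.sylow_comm P huP hy, mul_assoc]

omit h in
theorem exists_ne_one (P : Sylow p S) (hP : Nat.card P = p ^ n) (hn : n ≠ 0) : ∃ x ∈ P, x ≠ 1 := by
  have h1 : 1 < Nat.card P := by
    rw [hP]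
    exact Nat.one_lt_pow hn hp.out.one_lt
  have h2 : Nontrivial P := Finite.one_lt_card_iff_nontrivial.1 h1
  obtain ⟨x, hx⟩ := exists_ne (1 : P)
  exact ⟨x, x.2, fun h => hx (Subtype.ext h)⟩

/-- The order of `N(P) / C(P)`. -/
theorem exists_orbit (P : Sylow p S) {x : S} (hx : x ∈ P) (hx1 : x ≠ 1) :
    {y : S | ∃ g ∈ Subgroup.normalizer ((P : Subgroup S) : Set S), g * x * g⁻¹ = y}.ncard =
      (Subgroup.centralizer ((P : Subgroup S) : Set S)).relIndex
        (Subgroup.normalizer ((P : Subgroup S) : Set S)) := by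
  set N := Subgroup.normalizer ((P : Subgroup S) : Set S) with hN
  let _ : MulAction N S := MulAction.compHom S ((MulAut.conj : S →* MulAut S).comp N.subtype)
  have hsmul : ∀ (g : N) (y : S), g • y = g * y * (g : S)⁻¹ := fun g y => rfl
  have h1 : MulAction.orbit N x = {y : S | ∃ g ∈ N, g * x * g⁻¹ = y} := by
    ext y
    constructor
    · rintro ⟨g, hg⟩
      exact ⟨g, g.2, hg⟩
    · rintro ⟨g, hg, hgy⟩
      exact ⟨⟨g, hg⟩, hgy⟩
  have h2 : MulAction.stabilizer N x =
      (Subgroup.centralizer ((P : Subgroup S) : Set S)).subgroupOf N := by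
    ext g
    rw [MulAction.mem_stabilizer_iff, hsmul, Subgroup.mem_subgroupOf, Subgroup.mem_centralizer_iff]
    constructor
    · intro hg y hy
      refine (h.reg P g.2 hx hx1 ?_ hy).symm
      rw [mul_inv_eq_iff_eq_mul] at hg
      exact hg
    · intro hg
      rw [mul_inv_eq_iff_eq_mul]
      exact (hg x hx).symm
  rw [← h1, ← MulAction.index_stabilizer, h2]
  rfl

/-- The order of `N(P) / C(P)` is `p ^ n - 1` or half of it. -/
theorem relIndex_eq (P : Sylow p S) (hn : n ≠ 0) :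
    (Subgroup.centralizer ((P : Subgroup S) : Set S)).relIndex
        (Subgroup.normalizer ((P : Subgroup S) : Set S)) = p ^ n - 1 ∨
    2 * (Subgroup.centralizer ((P : Subgroup S) : Set S)).relIndex
        (Subgroup.normalizer ((P : Subgroup S) : Set S)) = p ^ n - 1 := by
  classical
  obtain ⟨x, hx, hx1⟩ := exists_ne_one P (h.card_sylow P) hn
  set N := Subgroup.normalizer ((P : Subgroup S) : Set S) with hN
  set t := (Subgroup.centralizer ((P : Subgroup S) : Set S)).relIndex N with ht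
  let O : S → Set S := fun x => {y : S | ∃ g ∈ N, g * x * g⁻¹ = y}
  have hO : ∀ x, x ∈ P → x ≠ 1 → (O x).ncard = t := fun x hx hx1 => h.exists_orbit P hx hx1
  have hOsub : ∀ x, x ∈ P → x ≠ 1 → O x ⊆ ((P : Subgroup S) : Set S) \ {1} := by
    rintro x hx hx1 _ ⟨g, hg, rfl⟩
    refine ⟨(Subgroup.mem_normalizer_iff.1 hg x).1 hx, ?_⟩
    rw [Set.mem_singleton_iff]
    intro h0
    apply hx1
    rw [mul_inv_eq_one] at h0
    exact mul_left_cancel (a := g) (by rw [h0, mul_one])
  have hcard : (((P : Subgroup S) : Set S) \ {1}).ncard = p ^ n - 1 := by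
    rw [Set.ncard_sdiff_singleton_of_mem (P : Subgroup S).one_mem]
    congr 1
    exact h.card_sylow P
  by_cases hall : ((P : Subgroup S) : Set S) \ {1} ⊆ O x
  · left
    rw [← hO x hx hx1, ← hcard]
    congr 1
    exact Set.Subset.antisymm (hOsub x hx hx1) hall
  · right
    rw [Set.not_subset] at hall
    obtain ⟨y, ⟨hy, hy1⟩, hyx⟩ := hall
    rw [Set.mem_singleton_iff] at hy1
    have hdisj : Disjoint (O x) (O y) := by
      rw [Set.disjoint_left]
      rintro z ⟨g, hg, hgz⟩ ⟨k, hk, hkz⟩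
      apply hyx
      refine ⟨k⁻¹ * g, N.mul_mem (N.inv_mem hk) hg, ?_⟩
      calc k⁻¹ * g * x * (k⁻¹ * g)⁻¹ = k⁻¹ * (g * x * g⁻¹) * k := by group
        _ = k⁻¹ * (k * y * k⁻¹) * k := by rw [hgz, hkz]
        _ = y := by group
    have hun : O x ∪ O y = ((P : Subgroup S) : Set S) \ {1} := by
      apply Set.Subset.antisymm (Set.union_subset (hOsub x hx hx1) (hOsub y hy hy1))
      rintro z ⟨hz, hz1⟩
      rw [Set.mem_singleton_iff] at hz1
      have hpx := PEl.of_mem P.isPGroup' hx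
      have hpy := PEl.of_mem P.isPGroup' hy
      have hpz := PEl.of_mem P.isPGroup' (show z ∈ (P : Subgroup S) from hz)
      rcases h.two x y z hpx hx1 hpy hy1 hpz hz1 with h1 | h1 | h1
      · exact absurd (h.burnside P hx hy h1) hyx
      · right
        exact h.burnside P hy hz h1
      · left
        exact h.burnside P hx hz h1
    have h1 := Set.ncard_union_eq hdisj (Set.toFinite _) (Set.toFinite _)
    rw [hun, hcard, hO x hx hx1, hO y hy hy1] at h1
    omega

theorem mul_dvd (P : Sylow p S) : p ^ n * (Subgroup.centralizer ((P : Subgroup S) : Set S)).relIndex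
        (Subgroup.normalizer ((P : Subgroup S) : Set S)) ∣ Nat.card S := by
  set N := Subgroup.normalizer ((P : Subgroup S) : Set S) with hN
  set C := Subgroup.centralizer ((P : Subgroup S) : Set S) with hC
  have hCN : C ≤ N := by
    intro c hc
    rw [hN, Subgroup.mem_normalizer_iff]
    intro y
    have hc' := Subgroup.mem_centralizer_iff.1 hc
    constructor
    · intro hy
      have : c * y * c⁻¹ = y := by
        rw [mul_inv_eq_iff_eq_mul]
        exact (hc' y hy).symm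
      rw [this]; exact hy
    · intro hy
      have h1 := hc' _ hy
      have h2 : c * y * c⁻¹ = y := by
        have h3 : c * y * c⁻¹ * c = c * (c * y * c⁻¹) := h1
        have h4 : y = c * y * c⁻¹ := by
          apply mul_left_cancel (a := c)
          rw [← h3]; group
        exact h4.symm
      rw [← h2]; exact hy
  have hPC : (P : Subgroup S) ≤ C := by
    intro a ha
    rw [hC, Subgroup.mem_centralizer_iff]
    intro b hb
    exact h.sylow_comm P hb ha
  have h1 : Nat.card C * C.relIndex N = Nat.card N := by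
    have := Subgroup.relIndex_mul_relIndex ⊥ C N bot_le hCN
    rwa [Subgroup.relIndex_bot_left, Subgroup.relIndex_bot_left] at this
  refine dvd_trans ?_ (Subgroup.card_subgroup_dvd_card N)
  rw [← h1]
  apply mul_dvd_mul_right
  rw [← h.card_sylow P]
  exact Subgroup.card_dvd_of_le hPC

/-- The semiregular automizer. -/
theorem dat (P : Sylow p S) (hn : n ≠ 0) :
    Dat p ((Subgroup.centralizer ((P : Subgroup S) : Set S)).relIndex
        (Subgroup.normalizer ((P : Subgroup S) : Set S))) S := by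
  classical
  obtain ⟨x, hx, hx1⟩ := exists_ne_one P (h.card_sylow P) hn
  set N := Subgroup.normalizer ((P : Subgroup S) : Set S) with hN
  have hO := h.exists_orbit P hx hx1
  rw [← hN] at hO
  set O : Set S := {y : S | ∃ g ∈ N, g * x * g⁻¹ = y} with hOd
  rw [← hO]
  have hOfin : O.Finite := Set.toFinite _
  have e : Fin O.ncard ≃ O := by
    have := Finite.equivFin O
    exact (this.trans (finCongr (Nat.card_coe_set_eq O))).symm
  choose g hg hgx using fun i : Fin O.ncard => (e i).2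
  refine ⟨P, g, P.isPGroup', ?_, fun a ha b hb => h.sylow_comm P ha hb, ?_, ?_⟩
  · intro h0
    have h1 : x ∈ (P : Subgroup S) := hx
    rw [h0, Subgroup.mem_bot] at h1
    exact hx1 h1
  · intro i a ha
    exact (Subgroup.mem_normalizer_iff.1 (hg i) a).1 ha
  · intro i j hij y hy hyy
    by_contra hy1
    apply hij
    apply e.injective
    apply Subtype.ext
    rw [← hgx i, ← hgx j]
    have h1 : ((g j)⁻¹ * g i) * y = y * ((g j)⁻¹ * g i) := by
      have : (g j)⁻¹ * (g i * y * (g i)⁻¹) * g i = (g j)⁻¹ * (g j * y * (g j)⁻¹) * g i := by rw [hyy]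
      calc ((g j)⁻¹ * g i) * y = (g j)⁻¹ * (g i * y * (g i)⁻¹) * g i := by group
        _ = (g j)⁻¹ * (g j * y * (g j)⁻¹) * g i := this
        _ = y * ((g j)⁻¹ * g i) := by group
    have h2 := h.reg P (N.mul_mem (N.inv_mem (hg j)) (hg i)) hy hy1 h1 hx
    calc g i * x * (g i)⁻¹ = g j * ((g j)⁻¹ * g i * x) * (g i)⁻¹ := by group
      _ = g j * (x * ((g j)⁻¹ * g i)) * (g i)⁻¹ := by rw [h2]
      _ = g j * x * (g j)⁻¹ := by group

/-- If some nontrivial `p`-element is real then the order of `N(P) / C(P)` is even. -/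
theorem even_of_real (P : Sylow p S) (hp2 : p ≠ 2) {x : S} (hx : PEl p x) (hx1 : x ≠ 1) (hr : IsConj x x⁻¹) :
    Even ((Subgroup.centralizer ((P : Subgroup S) : Set S)).relIndex
        (Subgroup.normalizer ((P : Subgroup S) : Set S))) := by
  classical
  -- a conjugate of `x` in `P`
  obtain ⟨Q, hQ⟩ := hx.exists_sylow
  obtain ⟨c, hc⟩ := MulAction.exists_smul_eq S Q P
  have hyP : c * x * c⁻¹ ∈ P := by
    rw [← hc]
    exact ⟨x, hQ, rfl⟩
  obtain ⟨y, hy, hy1, hyr⟩ : ∃ y ∈ P, y ≠ 1 ∧ IsConj y y⁻¹ := by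
    refine ⟨_, hyP, ?_, ?_⟩
    · intro h0
      apply hx1
      have := congrArg (fun z => c⁻¹ * z * c) h0
      simpa [mul_assoc] using this
    · have h1 : IsConj x (c * x * c⁻¹) := isConj_iff.2 ⟨c, rfl⟩
      have h2 : IsConj x⁻¹ (c * x * c⁻¹)⁻¹ := isConj_iff.2 ⟨c, by group⟩
      exact (h1.symm.trans hr).trans h2
  obtain ⟨g, hg, hgy⟩ := h.burnside P hy (P.inv_mem hy) hyr
  rw [← h.exists_orbit P hy hy1]
  set N := Subgroup.normalizer ((P : Subgroup S) : Set S) with hN
  set O : Set S := {z : S | ∃ g ∈ N, g * y * g⁻¹ = z} with hO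
  have hO2 : ∀ z ∈ O, z⁻¹ ∈ O := by
    rintro z ⟨k, hk, rfl⟩
    refine ⟨k * g, N.mul_mem hk hg, ?_⟩
    have : k * g * y * (k * g)⁻¹ = k * (g * y * g⁻¹) * k⁻¹ := by group
    rw [this, hgy]
    group
  have hO3 : ∀ z ∈ O, z⁻¹ ≠ z := by
    rintro z ⟨k, hk, rfl⟩ h0
    have h1 : y⁻¹ = y := by
      have h2 : k * y⁻¹ * k⁻¹ = k * y * k⁻¹ := by rw [← h0]; group
      exact mul_left_cancel (mul_right_cancel h2)
    have h2 : y ^ 2 = 1 := by
      rw [pow_two]
      nth_rw 1 [← h1]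
      exact inv_mul_cancel y
    have h3 : y ^ p = 1 := h.exp y (PEl.of_mem P.isPGroup' hy)
    have h4 : orderOf y ∣ 1 := by
      have : Nat.Coprime 2 p := (Nat.coprime_primes Nat.prime_two hp.out).2 (Ne.symm hp2)
      rw [← this]
      exact Nat.dvd_gcd (orderOf_dvd_of_pow_eq_one h2) (orderOf_dvd_of_pow_eq_one h3)
    exact hy1 (orderOf_eq_one_iff.1 (Nat.dvd_one.1 h4))
  have hfin : O.Finite := Set.toFinite _
  rw [Set.ncard_eq_toFinset_card O hfin]
  have h5 : ∑ z ∈ hfin.toFinset, (1 : ZMod 2) = 0 := by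
    refine Finset.sum_involution (fun z _ => z⁻¹) (fun z _ => by decide) (fun z hz _ => ?_) (fun z hz => ?_)
      (fun z _ => inv_inv z)
    · exact hO3 z (hfin.mem_toFinset.1 hz)
    · exact hfin.mem_toFinset.2 (hO2 z (hfin.mem_toFinset.1 hz))
  rw [Finset.sum_const, nsmul_eq_mul, mul_one] at h5
  exact (ZMod.natCast_eq_zero_iff_even).1 h5

/-- The conclusions used in the elimination. -/
theorem exists_t' (hn : n ≠ 0) (hp2 : p ≠ 2) : ∃ t : ℕ, (t = p ^ n - 1 ∨ 2 * t = p ^ n - 1) ∧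
    p ^ n * t ∣ Nat.card S ∧ Dat p t S ∧ ∀ x : S, PEl p x → x ≠ 1 → IsConj x x⁻¹ → Even t := by
  obtain ⟨P⟩ : Nonempty (Sylow p S) := inferInstance
  exact ⟨_, h.relIndex_eq P hn, h.mul_dvd P, h.dat P hn, fun x hx hx1 hr => h.even_of_real P hp2 hx hx1 hr⟩

/-- The conclusions used in the elimination. -/
theorem exists_t (hn : n ≠ 0) : ∃ t : ℕ, (t = p ^ n - 1 ∨ 2 * t = p ^ n - 1) ∧ p ^ n * t ∣ Nat.card S ∧
    Dat p t S := by
  obtain ⟨P⟩ : Nonempty (Sylow p S) := inferInstance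
  exact ⟨_, h.relIndex_eq P hn, h.mul_dvd P, h.dat P hn⟩

end Hyp

end Cfsg.Agent.H634.HypS
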