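import Mathlib
import Cfsg.Agent.H634.Cols
import Cfsg.Agent.H633.Principal
import Cfsg.Agent.Blocks.PrincipalInflate
import Cfsg.Agent.Blocks.RegularCount

/-!
# The principal block of a quotient by a normal `p'`-subgroup: number of characters and rank
-/

set_option autoImplicit false

open Cfsg Module

namespace Cfsg.Agent.H634.Quot

open Cfsg.Agent.H608.BlockRank H633.Principal

universe u

variable {G : Type u} [Group G] [Finite G] {p : ℕ} [hp : Fact p.Prime] {M : Ideal AlgInt}

omit [Finite G] in
theorem infl_injective (N : Subgroup G) [N.Normal] : Function.Injective (infl N) := by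
  intro χ ψ h
  apply Subtype.ext
  funext x
  induction x using QuotientGroup.induction_on with
  | H g => exact congrFun (congrArg Subtype.val h) g

theorem image_infl (hM : IsPModular p M) (N : Subgroup G) [N.Normal] (hN : ¬ p ∣ Nat.card N) :
    infl N '' principalBlock M (G ⧸ N) = principalBlock M G := by
  have hMp : M.IsPrime := hM.2.1.isPrime
  apply Set.Subset.antisymm
  · rintro _ ⟨χ, hχ, rfl⟩
    exact inflate_mem N hχ
  · intro ψ hψ
    obtain ⟨χ, hχ, he⟩ := Blocks.PrincipalInflate.exists_comp hM
      (QuotientGroup.mk'_surjective N) (by rwa [QuotientGroup.ker_mk']) hψ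
    exact ⟨χ, hχ, Subtype.ext he.symm⟩

theorem card_quot (hM : IsPModular p M) (N : Subgroup G) [N.Normal] (hN : ¬ p ∣ Nat.card N) :
    Nat.card (principalBlock M (G ⧸ N)) = Nat.card (principalBlock M G) := by
  rw [← image_infl hM N hN]
  exact (Nat.card_image_of_injective (infl_injective N) _).symm

/-- `p`-regularity modulo a normal `p'`-subgroup. -/
theorem isPRegular_iff (N : Subgroup G) [N.Normal] (hN : ¬ p ∣ Nat.card N) (g : G) :
    IsPRegular p (g : G ⧸ N) ↔ IsPRegular p g := by
  constructor
  · intro h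
    obtain ⟨x, y, hxy, hc, hx, -, ⟨k, hk⟩, hy⟩ := Blocks.RegularCount.exists_pPart (p := p) g
    have h1 : orderOf (x : G ⧸ N) ∣ orderOf (g : G ⧸ N) := by
      obtain ⟨m, hm⟩ := Subgroup.mem_zpowers_iff.1 hx
      rw [← hm]
      apply orderOf_dvd_of_mem_zpowers
      exact Subgroup.mem_zpowers_iff.2 ⟨m, rfl⟩
    have h2 : orderOf (x : G ⧸ N) ∣ p ^ k := by
      rw [← hk]
      exact orderOf_map_dvd (QuotientGroup.mk' N) x
    have h3 : (orderOf (g : G ⧸ N)).Coprime (p ^ k) :=
      Nat.Coprime.pow_right _ ((Nat.Prime.coprime_iff_not_dvd hp.out).2 h).symm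
    have h4 : orderOf (x : G ⧸ N) = 1 := Nat.eq_one_of_dvd_coprimes h3 h1 h2
    rw [orderOf_eq_one_iff, QuotientGroup.eq_one_iff] at h4
    have h5 : orderOf x ∣ Nat.card N := by
      have := orderOf_dvd_natCard (⟨x, h4⟩ : N)
      rwa [← Subgroup.orderOf_coe] at this
    have h6 : x = 1 := by
      rcases Nat.eq_zero_or_pos k with rfl | hk0
      · rw [pow_zero, orderOf_eq_one_iff] at hk
        exact hk
      · exact absurd ((dvd_pow_self p hk0.ne').trans (hk ▸ h5)) hN
    rw [← hxy, h6, one_mul]
    exact hy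
  · intro h h1
    apply h
    exact h1.trans (orderOf_map_dvd (QuotientGroup.mk' N) g)

theorem rank_quot (hM : IsPModular p M) (N : Subgroup G) [N.Normal] (hN : ¬ p ∣ Nat.card N) :
    blockRank p (principalBlock M (G ⧸ N)) = blockRank p (principalBlock M G) := by
  classical
  let L : (G ⧸ N → ℂ) →ₗ[ℂ] (G → ℂ) := LinearMap.funLeft ℂ ℂ (QuotientGroup.mk : G → G ⧸ N)
  have hL : Function.Injective L := by
    intro f g h
    funext x
    induction x using QuotientGroup.induction_on with
    | H y => exact congrFun h y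
  unfold blockRank
  rw [← image_infl hM N hN, Set.image_image]
  have h1 : (fun χ : IrrCharacter (G ⧸ N) => pRegularPart p (infl N χ : G → ℂ)) =
      fun χ : IrrCharacter (G ⧸ N) => L (pRegularPart p (χ : G ⧸ N → ℂ)) := by
    funext χ g
    change pRegularPart p (infl N χ : G → ℂ) g = pRegularPart p (χ : G ⧸ N → ℂ) (g : G ⧸ N)
    unfold pRegularPart
    by_cases hg : IsPRegular p g
    · rw [if_pos hg, if_pos ((isPRegular_iff N hN g).2 hg)]
      rfl
    · rw [if_neg hg, if_neg (fun h => hg ((isPRegular_iff N hN g).1 h))]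
  rw [h1, ← Set.image_image L, Submodule.span_image]
  exact (Submodule.equivMapOfInjective L hL _).finrank_eq

end Cfsg.Agent.H634.Quot
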