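import Cfsg.Agent.H634.ElBase

/-!
# Elimination: the alternating groups
-/

set_option autoImplicit false

open Cfsg Subgroup

namespace Cfsg.Agent.H634.El

open Cfsg.Agent.H634.HypS Cfsg.Agent.H634.Dim Cfsg.Agent.H634.Num

variable {p n : ℕ} {S : Type*} [Group S]

theorem exists_cycles {p m : ℕ} [hp : Fact p.Prime] (hp2 : p ≠ 2) (k : ℕ) (hk : k * p ≤ m) :
    ∃ g : alternatingGroup (Fin m), g ^ p = 1 ∧ (g : Equiv.Perm (Fin m)).cycleType = Multiset.replicate k p := by
  have h2 := hp.out.two_le
  obtain ⟨g, hg⟩ := (Equiv.Perm.exists_with_cycleType_iff (α := Fin m) (m := Multiset.replicate k p)).2 (by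
    rw [Multiset.sum_replicate, Fintype.card_fin, smul_eq_mul]
    refine ⟨hk, fun a ha => ?_⟩
    rw [Multiset.eq_of_mem_replicate ha]
    exact h2)
  have hgp : g ^ p = 1 := by
    rw [← orderOf_dvd_iff_pow_eq_one, ← Equiv.Perm.lcm_cycleType, hg]
    refine Multiset.lcm_dvd.2 fun a ha => ?_
    rw [Multiset.eq_of_mem_replicate ha]
  have hsign : Equiv.Perm.sign g = 1 := by
    have h1 : Equiv.Perm.sign g ^ p = 1 := by rw [← map_pow, hgp, map_one]
    rcases Int.units_eq_one_or (Equiv.Perm.sign g) with h | h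
    · exact h
    · rw [h, (hp.out.odd_of_ne_two hp2).neg_one_pow] at h1
      exact absurd h1 (by decide)
  exact ⟨⟨g, Equiv.Perm.mem_alternatingGroup.2 hsign⟩, Subtype.ext hgp, hg⟩

theorem alt_false [hp : Fact p.Prime] [Finite S] (h : Hyp p n S) (hp2 : p ≠ 2) (hn : 3 ≤ n) {m : ℕ}
    (e : S ≃* alternatingGroup (Fin m)) : False := by
  have h2 := hp.out.two_le
  have hA := h.congr e
  have h3 : 3 * p ≤ m := by
    by_contra hlt
    have hd : p ^ 3 ∣ Nat.card (alternatingGroup (Fin m)) := (pow_dvd_pow p hn).trans hA.dvd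
    have hd' : p ^ 3 ∣ m.factorial := by
      have h4 : Nat.card (alternatingGroup (Fin m)) ∣ Nat.card (Equiv.Perm (Fin m)) := Subgroup.card_subgroup_dvd_card _
      rw [Nat.card_perm, Nat.card_eq_fintype_card, Nat.card_eq_fintype_card, Fintype.card_fin] at h4
      rw [Nat.card_eq_fintype_card] at hd
      exact hd.trans h4
    have hlog : Nat.log p m < 2 := by
      apply Nat.log_lt_of_lt_pow'
      · norm_num
      · rw [pow_two]
        have : 3 * p ≤ p * p := Nat.mul_le_mul_right _ (by omega)
        omega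
    rw [Nat.Prime.pow_dvd_factorial_iff hp.out hlog] at hd'
    have h5 : Finset.Ico 1 2 = {1} := rfl
    rw [h5, Finset.sum_singleton, pow_one] at hd'
    have h6 := (Nat.le_div_iff_mul_le hp.out.pos).1 hd'
    omega
  obtain ⟨x, hx, hxc⟩ := exists_cycles (m := m) hp2 1 (by omega)
  obtain ⟨y, hy, hyc⟩ := exists_cycles (m := m) hp2 2 (by omega)
  obtain ⟨z, hz, hzc⟩ := exists_cycles (m := m) hp2 3 (by omega)
  have key : ∀ (g : alternatingGroup (Fin m)) (k : ℕ), k ≠ 0 →
      (g : Equiv.Perm (Fin m)).cycleType = Multiset.replicate k p → g ≠ 1 := by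
    rintro g k hk hg rfl
    rw [Subgroup.coe_one, Equiv.Perm.cycleType_one] at hg
    have := congrArg Multiset.card hg
    rw [Multiset.card_replicate, Multiset.card_zero] at this
    omega
  have key2 : ∀ (g g' : alternatingGroup (Fin m)) (k k' : ℕ), k ≠ k' →
      (g : Equiv.Perm (Fin m)).cycleType = Multiset.replicate k p →
      (g' : Equiv.Perm (Fin m)).cycleType = Multiset.replicate k' p → ¬ IsConj g g' := by
    intro g g' k k' hk hg hg' hc
    have h1 := isConj_map (alternatingGroup (Fin m)).subtype hc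
    have h2 := Equiv.Perm.isConj_iff_cycleType_eq.1 h1
    have h4 : Multiset.replicate k p = Multiset.replicate k' p := by
      rw [← hg, ← hg']
      exact h2
    have := congrArg Multiset.card h4
    rw [Multiset.card_replicate, Multiset.card_replicate] at this
    exact hk this
  rcases hA.two x y z (PEl.of_pow hx) (key x 1 (by norm_num) hxc) (PEl.of_pow hy) (key y 2 (by norm_num) hyc)
    (PEl.of_pow hz) (key z 3 (by norm_num) hzc) with hc | hc | hc
  · exact key2 x y 1 2 (by norm_num) hxc hyc hc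
  · exact key2 y z 2 3 (by norm_num) hyc hzc hc
  · exact key2 x z 1 3 (by norm_num) hxc hzc hc

end Cfsg.Agent.H634.El
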