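import Cfsg.Agent.H634.ElBase
import Cfsg.Agent.S0245
import Cfsg.Agent.S0246
import Cfsg.Agent.S0292
import Cfsg.Agent.S0293
import Cfsg.Agent.S0294
import Cfsg.Agent.LieClassical.OrthCenter

/-!
# Elimination: `PSp`, `POmega`
-/

set_option autoImplicit false

open Cfsg Subgroup

namespace Cfsg.Agent.H634.El

open Cfsg.Agent.H634.HypS Cfsg.Agent.H634.Dim Cfsg.Agent.H634.Num QuadraticMap Cfsg.Agent.LieClassical.QuadForms
  Cfsg.Agent.LieClassical.OmegaReindex Cfsg.Agent.LieClassical.PomegaCard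

variable {p n t : ℕ} {S : Type*} [Group S]

/-- The common part of the types `B`, `C`, `D`. -/
theorem exists_le [hp : Fact p.Prime] (s : Sit p n t S) {q c A m : ℕ} (hq1 : 1 ≤ q) (hpq : ¬ p ∣ q) (hc : ¬ p ∣ c)
    (h : c * Nat.card S = A * ∏ i ∈ Finset.range m, (q ^ (2 * (i + 1)) - 1)) : 2 * m < (n + 1) * (p - 1) := by
  have hp3 := s.p3
  have hq0 : ((q : ZMod p)) ^ 2 ≠ 0 := pow_ne_zero 2 (zmod_ne_zero hpq)
  have hodd : Odd p := hp.out.odd_of_ne_two (by omega)
  obtain ⟨h', hh⟩ := hodd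
  obtain ⟨d, hd0, hd1⟩ : ∃ d, d = (p - 1) / 2 ∧ ((q : ZMod p) ^ 2) ^ d = 1 := by
    refine ⟨(p - 1) / 2, rfl, ?_⟩
    rw [← pow_mul]
    have h2 : 2 * ((p - 1) / 2) = p - 1 := by omega
    rw [h2]
    exact ZMod.pow_card_sub_one_eq_one (zmod_ne_zero hpq)
  have hdpos : 0 < d := by omega
  have h1 : p ^ (m / d) ∣ ∏ i ∈ Finset.range m, (q ^ (2 * (i + 1)) - 1) := by
    refine pow_dvd_prod (d := d) (fun j => q ^ (2 * j) - 1) (fun k _ => ?_) m
    apply dvd_sub_one_of_pow hq1
    rw [← mul_assoc, mul_comm 2 d, mul_assoc, mul_comm, mul_assoc, pow_mul, mul_comm k d, pow_mul, hd1, one_pow]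
  have h2 : p ^ (m / d) ∣ c * Nat.card S := by
    rw [h]
    exact h1.mul_left _
  have h3 : p ^ (m / d) ∣ Nat.card S := by
    have hc : (p ^ (m / d)).Coprime c := Nat.Coprime.pow_left _ ((Nat.Prime.coprime_iff_not_dvd hp.out).2 hc)
    exact hc.dvd_of_dvd_mul_left h2
  have h4 := s.le_of_dvd h3
  have h6 : m < (n + 1) * d := (Nat.div_lt_iff_lt_mul hdpos).1 (by omega)
  have h7 : (n + 1) * d * 2 = (n + 1) * (p - 1) := by
    rw [mul_assoc]
    congr 1
    omega
  omega

/-- Defining characteristic, types `B` and `C`. -/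
theorem bc_defining [hp : Fact p.Prime] (s : Sit p n t S) {F : Type*} [Field F] [Fintype F] {c m : ℕ} (hm : 2 ≤ m)
    (hpF : p ∣ Fintype.card F) (hc : ¬ p ∣ c)
    (h : c * Nat.card S = Fintype.card F ^ (m ^ 2) * ∏ i ∈ Finset.range m, (Fintype.card F ^ (2 * (i + 1)) - 1)) :
    False := by
  obtain ⟨f, hf1, hf, hF⟩ := exists_card hpF
  set q := Fintype.card F
  have hq1 : 1 < q := Fintype.one_lt_card
  have hB : ¬ p ∣ ∏ i ∈ Finset.range m, (q ^ (2 * (i + 1)) - 1) := by
    rw [Prime.dvd_finsetProd_iff hp.out.prime]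
    rintro ⟨i, -, h⟩
    exact not_dvd_sub hp.out hpF hq1.le (by omega) h
  have h0 : c * Nat.card S = p ^ (f * m ^ 2) * ∏ i ∈ Finset.range m, (q ^ (2 * (i + 1)) - 1) := by
    rw [h]
    congr 1
    rw [hf, ← pow_mul]
  have hn := s.eq_of_card h0 hc hB
  obtain ⟨r, hr, h1, h2, h3⟩ := s.exists_prime h0
  rw [Prime.dvd_finsetProd_iff hr.prime] at h1
  obtain ⟨i, hi, h4⟩ := h1
  rw [Finset.mem_range] at hi
  rw [hf, ← pow_mul, h2, hn] at h4
  have h5 : m ^ 2 ∣ 2 * (i + 1) := Nat.dvd_of_mul_dvd_mul_left (by omega) h4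
  have h6 := Nat.le_of_dvd (by omega) h5
  have h7 : m ≤ 2 := by
    by_contra h8
    have h9 : m * 3 ≤ m * m := Nat.mul_le_mul_left _ (by omega)
    rw [pow_two] at h6
    omega
  obtain rfl : m = 2 := by omega
  obtain ⟨k, hk⟩ := s.odd
  omega

/-- Defining characteristic, type `D`. -/
theorem d_defining [hp : Fact p.Prime] (s : Sit p n t S) {F : Type*} [Field F] [Fintype F] {c m B : ℕ}
    (hpF : p ∣ Fintype.card F) (hc : ¬ p ∣ c) (hB : ¬ p ∣ B)
    (h : c * Nat.card S = Fintype.card F ^ (m * (m - 1)) * B) : False := by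
  obtain ⟨f, hf1, hf, hF⟩ := exists_card hpF
  have h0 : c * Nat.card S = p ^ (f * (m * (m - 1))) * B := by
    rw [h]
    congr 1
    rw [hf, ← pow_mul]
  have hn := s.eq_of_card h0 hc hB
  have h1 : Even n := by
    rw [hn]
    exact (Nat.even_mul_pred_self m).mul_left f
  exact (Nat.not_even_iff_odd.2 s.odd) h1

theorem psp_false [hp : Fact p.Prime] (s : Sit p n t S) {F : Type*} [Field F] [Fintype F] {m : ℕ} (hm : 2 ≤ m)
    (e : S ≃* PSp m F) : False := by
  classical
  set q := Fintype.card F with hq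
  have hq1 : 1 < q := Fintype.one_lt_card
  have hp3 := s.p3
  have hc : ¬ p ∣ Nat.gcd 2 (q - 1) := by
    intro h
    have := Nat.le_of_dvd (by norm_num) (h.trans (Nat.gcd_dvd_left _ _))
    omega
  have hcard : Nat.gcd 2 (q - 1) * Nat.card S = q ^ (m ^ 2) * ∏ i ∈ Finset.range m, (q ^ (2 * (i + 1)) - 1) := by
    rw [← S0245.result hq.symm m, ← S0246.result hq.symm m (by omega), Nat.card_congr e.toEquiv,
      Subgroup.card_eq_card_quotient_mul_card_subgroup (center (Matrix.symplecticGroup (Fin m) F)), mul_comm]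
  by_cases hpF : p ∣ q
  · exact bc_defining s hm hpF hc hcard
  · have h1 := exists_le s hq1.le hpF hc hcard
    let ρ : Matrix.symplecticGroup (Fin m) F →* Matrix (Fin m ⊕ Fin m) (Fin m ⊕ Fin m) F :=
      (Matrix.symplecticGroup (Fin m) F).subtype
    have hρ : Function.Injective ρ := fun a b hab => Subtype.ext hab
    have h2 : ¬ p ∣ Nat.card (center (Matrix.symplecticGroup (Fin m) F)) := by
      rw [S0246.result hq.symm m (by omega)]
      exact hc
    have h3 := le_card_of_center s.dat e h2 (natCast_ne_zero hpF) ρ hρ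
    rw [Fintype.card_sum, Fintype.card_fin] at h3
    have h4 := s.lt_t (m := m + m) (by omega)
    omega

/-- Orthogonal groups in cross characteristic. -/
theorem omega_false [hp : Fact p.Prime] (s : Sit p n t S) {F : Type*} [Field F] [Fintype F] {ι : Type} [Fintype ι]
    [DecidableEq ι] (Q : QuadraticForm F (ι → F)) (hQ : (polarBilin Q).Nondegenerate) (hn : 3 ≤ Fintype.card ι)
    (hs : ∃ u : ι → F, u ≠ 0 ∧ Q u = 0) (hpF : ¬ p ∣ Fintype.card F) (e : S ≃* POmega F (⇑Q))
    (hle : Fintype.card ι ≤ (n + 1) * (p - 1) + 2) : False := by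
  classical
  have hp3 := s.p3
  let ρ : Omega F (⇑Q) →* Matrix ι ι F :=
    (Units.coeHom (Matrix ι ι F)).comp ((isometryGroup F (⇑Q)).subtype.comp (Omega F (⇑Q)).subtype)
  have hρ : Function.Injective ρ := fun a b hab => Subtype.ext (Subtype.ext (Units.ext hab))
  have h2 : ¬ p ∣ 2 := fun h => by
    have := Nat.le_of_dvd (by norm_num) h
    omega
  refine s.cross e h2 (fun z hz => ?_) (natCast_ne_zero hpF) ρ hρ hle
  apply hρ
  rw [map_pow, map_one]
  rcases (Cfsg.Agent.LieClassical.OrthCenter.mem_center_omega_iff hQ hn hs z).1 hz with h | h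
  · have h' : ρ z = 1 := h
    rw [h', one_pow]
  · have h' : ρ z = -1 := h
    rw [h', neg_one_sq]

theorem oodd_false [hp : Fact p.Prime] (s : Sit p n t S) {F : Type*} [Field F] [Fintype F] {m : ℕ} (hm : 3 ≤ m)
    (ho : Odd (Fintype.card F)) (e : S ≃* POmega F (quadFormOdd m F)) : False := by
  classical
  set q := Fintype.card F with hq
  have hq1 : 1 < q := Fintype.one_lt_card
  have hp3 := s.p3
  have hc : ¬ p ∣ 2 := by
    intro h
    have := Nat.le_of_dvd (by norm_num) h
    omega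
  have hcard := S0292.result hq.symm ho m hm
  rw [← Nat.card_congr e.toEquiv] at hcard
  by_cases hpF : p ∣ q
  · exact bc_defining s (by omega) hpF hc hcard
  · have h1 := exists_le s hq1.le hpF hc hcard
    have h2 : (2 : F) ≠ 0 := by
      intro h
      have h' : (ringChar F) = 2 := by
        have hd : ringChar F ∣ 2 := (ringChar.spec F 2).1 (by exact_mod_cast h)
        rcases (Nat.dvd_prime Nat.prime_two).1 hd with h1 | h1
        · exact absurd h1 (CharP.ringChar_ne_one)
        · exact h1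
      have heven := FiniteField.even_card_of_char_two h'
      have := Nat.odd_iff.1 ho
      omega
    rw [← coe_oddForm] at e
    have h3 : Fintype.card (Unit ⊕ (Fin m ⊕ Fin m)) = 2 * m + 1 := by
      simp
      ring
    exact omega_false s (oddForm m F) (S0292.oddForm_nondegenerate h2 m) (by omega) (S0292.exists_singular (by omega))
      hpF e (by omega)

theorem gcd_four {p a : ℕ} [hp : Fact p.Prime] (hp3 : 3 ≤ p) : ¬ p ∣ Nat.gcd 4 a := by
  intro h
  have h1 : p ∣ 2 ^ 2 := h.trans (Nat.gcd_dvd_left _ _)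
  have := Nat.le_of_dvd (by norm_num) (hp.out.dvd_of_dvd_pow h1)
  omega

theorem oplus_false [hp : Fact p.Prime] (s : Sit p n t S) {F : Type*} [Field F] [Fintype F] {m : ℕ} (hm : 4 ≤ m)
    (e : S ≃* POmega F (quadFormPlus m F)) : False := by
  classical
  set q := Fintype.card F with hq
  have hq1 : 1 < q := Fintype.one_lt_card
  have hp3 := s.p3
  have hcard := S0293.result hq.symm m hm
  rw [← Nat.card_congr e.toEquiv] at hcard
  by_cases hpF : p ∣ q
  · rw [mul_assoc] at hcard
    refine d_defining s hpF (gcd_four hp3) ?_ hcard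
    intro h
    rcases (Nat.Prime.dvd_mul hp.out).1 h with h | h
    · exact not_dvd_sub hp.out hpF hq1.le (by omega) h
    · rw [Prime.dvd_finsetProd_iff hp.out.prime] at h
      obtain ⟨i, -, h⟩ := h
      exact not_dvd_sub hp.out hpF hq1.le (by omega) h
  · have h1 := exists_le s hq1.le hpF (gcd_four hp3) hcard
    rw [← coe_quadPlus] at e
    have h3 : Fintype.card (Fin m ⊕ Fin m) = 2 * m := by
      simp
      ring
    exact omega_false s (quadPlus m F) quadPlus_nondegenerate (by omega) (quadPlus_isotropic (by omega))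
      hpF e (by omega)

theorem ominus_false [hp : Fact p.Prime] (s : Sit p n t S) {F : Type*} [Field F] [Fintype F] {m : ℕ} (hm : 4 ≤ m)
    {a b : F} (hab : ∀ z₁ z₂ : F, z₁ ^ 2 + a * z₁ * z₂ + b * z₂ ^ 2 = 0 → z₁ = 0 ∧ z₂ = 0)
    (e : S ≃* POmega F (quadFormMinus (m - 1) F a b)) : False := by
  classical
  set q := Fintype.card F with hq
  have hq1 : 1 < q := Fintype.one_lt_card
  have hp3 := s.p3
  have hcard := S0294.result hq.symm m hm a b hab
  rw [← Nat.card_congr e.toEquiv] at hcard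
  by_cases hpF : p ∣ q
  · rw [mul_assoc] at hcard
    refine d_defining s hpF (gcd_four hp3) ?_ hcard
    intro h
    rcases (Nat.Prime.dvd_mul hp.out).1 h with h | h
    · exact not_dvd_add_one hp.out hpF (by omega) h
    · rw [Prime.dvd_finsetProd_iff hp.out.prime] at h
      obtain ⟨i, -, h⟩ := h
      exact not_dvd_sub hp.out hpF hq1.le (by omega) h
  · have h1 := exists_le s hq1.le hpF (gcd_four hp3) hcard
    rw [← coe_quadMinus] at e
    have h3 : Fintype.card ((Fin (m - 1) ⊕ Fin (m - 1)) ⊕ Fin 2) = 2 * m := by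
      simp only [Fintype.card_sum, Fintype.card_fin]; omega
    exact omega_false s (quadMinus (m - 1) F a b) (quadMinus_nondegenerate hab) (by omega)
      (quadMinus_isotropic (by omega) a b) hpF e (by omega)

end Cfsg.Agent.H634.El
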