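import Cfsg.Agent.H634.Num
import Cfsg.Agent.H634.HypS
import Cfsg.Prelude.Def_Classical

/-!
# Elimination of the known simple groups: the common part
-/

set_option autoImplicit false

open Cfsg Subgroup

namespace Cfsg.Agent.H634.El

open Cfsg.Agent.H634.HypS Cfsg.Agent.H634.Dim Cfsg.Agent.H634.Num

/-- The situation of the elimination with the number `t`. -/
structure Sit (p n t : ℕ) (S : Type*) [Group S] : Prop where
  h : Hyp p n S
  p3 : 3 ≤ p
  n3 : 3 ≤ n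
  odd : Odd n
  ht : t = p ^ n - 1 ∨ 2 * t = p ^ n - 1
  dvd : p ^ n * t ∣ Nat.card S
  dat : Dat p t S
  real : ∀ x : S, PEl p x → x ≠ 1 → IsConj x x⁻¹ → Even t

theorem exists_sit {p n : ℕ} [hp : Fact p.Prime] {S : Type*} [Group S] [Finite S] (h : Hyp p n S) (hp2 : p ≠ 2)
    (hn : 3 ≤ n) (ho : Odd n) : ∃ t, Sit p n t S := by
  obtain ⟨t, h1, h2, h3, h4⟩ := h.exists_t' (by omega) hp2
  exact ⟨t, h, by have := hp.out.two_le; omega, hn, ho, h1, h2, h3, h4⟩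

variable {p n t : ℕ} {S : Type*} [Group S]

namespace Sit

theorem le_of_dvd (s : Sit p n t S) {k : ℕ} (h : p ^ k ∣ Nat.card S) : k ≤ n := by
  by_contra h1
  exact s.h.max ((pow_dvd_pow p (by omega)).trans h)

theorem lt_t (s : Sit p n t S) {m : ℕ} (hm : m ≤ (n + 1) * (p - 1) + 2) : m < t := by
  have := bound s.p3 s.n3
  rcases s.ht with h | h <;> omega

theorem t_dvd (s : Sit p n t S) : t ∣ Nat.card S := (Dvd.intro_left _ rfl).trans s.dvd

theorem pow_dvd (s : Sit p n t S) : p ^ n ∣ Nat.card S := (Dvd.intro _ rfl).trans s.dvd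

end Sit

theorem not_dvd_center [hp : Fact p.Prime] {X : Type*} [Group X] [Finite X] {k : ℕ} (hk : ¬ p ∣ k)
    (h : ∀ z ∈ center X, z ^ k = 1) : ¬ p ∣ Nat.card (center X) := by
  intro h1
  obtain ⟨z, hz⟩ := exists_prime_orderOf_dvd_card' p h1
  apply hk
  rw [← hz]
  apply orderOf_dvd_of_pow_eq_one
  exact Subtype.ext (by rw [Subgroup.coe_pow, h z z.2, Subgroup.coe_one])

/-- Elimination in cross characteristic. -/
theorem Sit.cross [hp : Fact p.Prime] (s : Sit p n t S) {X : Type*} [Group X] [Finite X]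
    (e : S ≃* X ⧸ center X) {k : ℕ} (hk : ¬ p ∣ k) (hz : ∀ z ∈ center X, z ^ k = 1) {F ι : Type*} [Field F]
    [Fintype ι] [DecidableEq ι] (hpF : (p : F) ≠ 0) (ρ : X →* Matrix ι ι F) (hρ : Function.Injective ρ)
    (hle : Fintype.card ι ≤ (n + 1) * (p - 1) + 2) : False := by
  have h1 := le_card_of_center s.dat e (not_dvd_center hk hz) hpF ρ hρ
  have h2 := s.lt_t hle
  omega

theorem natCast_ne_zero {p : ℕ} [hp : Fact p.Prime] {F : Type*} [Field F] [Fintype F] (h : ¬ p ∣ Fintype.card F) :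
    (p : F) ≠ 0 := by
  intro h0
  have h1 : CharP F p := by
    obtain ⟨c, hc⟩ := CharP.exists F
    have h2 := (CharP.cast_eq_zero_iff F c p).1 h0
    rcases (Nat.dvd_prime hp.out).1 h2 with h3 | h3
    · subst h3
      exact absurd h0 (by
        have : Subsingleton F := CharP.CharOne.subsingleton
        exact fun _ => one_ne_zero (α := F) (Subsingleton.elim _ _))
    · subst h3
      exact hc
  exact h ((CharP.cast_eq_zero_iff F p _).1 (FiniteField.cast_card_eq_zero F))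

/-- Factors divisible by `p`. -/
theorem exists_order {p : ℕ} [hp : Fact p.Prime] {a : ZMod p} (ha : a ≠ 0) :
    ∃ d, 0 < d ∧ d ∣ p - 1 ∧ a ^ d = 1 ∧ (d = 1 → a = 1) := by
  refine ⟨orderOf a, ?_, ?_, pow_orderOf_eq_one a, fun h => orderOf_eq_one_iff.1 h⟩
  · exact orderOf_pos_iff.2 (isOfFinOrder_iff_pow_eq_one.2
      ⟨p - 1, by have := hp.out.two_le; omega, ZMod.pow_card_sub_one_eq_one ha⟩)
  · exact orderOf_dvd_of_pow_eq_one (ZMod.pow_card_sub_one_eq_one ha)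

theorem dvd_sub_one_of_pow {p q m : ℕ} [hp : Fact p.Prime] (hq : 1 ≤ q) (h : (q : ZMod p) ^ m = 1) : p ∣ q ^ m - 1 := by
  rw [← CharP.cast_eq_zero_iff (ZMod p) p, Nat.cast_sub (Nat.one_le_pow _ _ hq)]
  push_cast
  rw [h, sub_self]

theorem dvd_add_one_of_pow {p q m : ℕ} [hp : Fact p.Prime] (h : (q : ZMod p) ^ m = -1) : p ∣ q ^ m + 1 := by
  rw [← CharP.cast_eq_zero_iff (ZMod p) p]
  push_cast
  rw [h, neg_add_cancel]

theorem zmod_ne_zero {p q : ℕ} [hp : Fact p.Prime] (h : ¬ p ∣ q) : (q : ZMod p) ≠ 0 := by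
  rwa [Ne, CharP.cast_eq_zero_iff (ZMod p) p]

/-- The exponent of `p` in the order. -/
theorem Sit.eq_of_card [hp : Fact p.Prime] (s : Sit p n t S) {c B k : ℕ} (h : c * Nat.card S = p ^ k * B)
    (hc : ¬ p ∣ c) (hB : ¬ p ∣ B) : n = k := by
  have hc' : ∀ j, (p ^ j).Coprime c := fun j => Nat.Coprime.pow_left _ ((Nat.Prime.coprime_iff_not_dvd hp.out).2 hc)
  have hB' : ∀ j, (p ^ j).Coprime B := fun j => Nat.Coprime.pow_left _ ((Nat.Prime.coprime_iff_not_dvd hp.out).2 hB)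
  apply le_antisymm
  · have h1 : p ^ n ∣ p ^ k * B := h ▸ s.pow_dvd.mul_left c
    exact (Nat.pow_dvd_pow_iff_le_right hp.out.one_lt).1 ((hB' n).dvd_of_dvd_mul_right h1)
  · have h1 : p ^ k ∣ c * Nat.card S := by
      rw [h]
      exact Dvd.intro _ rfl
    exact s.le_of_dvd ((hc' k).dvd_of_dvd_mul_left h1)

/-- The primitive prime in the order. -/
theorem Sit.exists_prime [hp : Fact p.Prime] (s : Sit p n t S) {c B k : ℕ} (h : c * Nat.card S = p ^ k * B) :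
    ∃ r : ℕ, r.Prime ∧ r ∣ B ∧ (∀ m, r ∣ p ^ m - 1 ↔ n ∣ m) ∧ ∀ m, ¬ r ∣ p ^ m + 1 := by
  obtain ⟨r, hr, h1, h2, h3⟩ := Num.exists_prime s.p3 s.n3 s.ht
  refine ⟨r, hr, ?_, h3, fun m => not_dvd_add s.p3 s.odd h2 h3⟩
  have h4 : r ∣ p ^ k * B := h ▸ ((h1.trans s.t_dvd).mul_left c)
  rcases (Nat.Prime.dvd_mul hr).1 h4 with h5 | h5
  · exfalso
    have h6 : r = p := (Nat.prime_dvd_prime_iff_eq hr hp.out).1 (hr.dvd_of_dvd_pow h5)
    subst h6
    have h7 := (h3 n).2 dvd_rfl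
    have h8 : r ∣ r ^ n := dvd_pow_self _ (by have := s.n3; omega)
    have h9 : 1 ≤ r ^ n := Nat.one_le_pow _ _ hr.pos
    have h10 := (Nat.dvd_sub h8 h7)
    have h11 : r ^ n - (r ^ n - 1) = 1 := by omega
    rw [h11] at h10
    exact hr.one_lt.ne' (Nat.dvd_one.1 h10)
  · exact h5

/-- `p` does not divide `q ^ k - 1` for `q` a power of `p`. -/
theorem not_dvd_sub {p q k : ℕ} (hp : p.Prime) (hq : p ∣ q) (hq1 : 1 ≤ q) (hk : 1 ≤ k) : ¬ p ∣ q ^ k - 1 := by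
  intro h
  have h8 : p ∣ q ^ k := dvd_pow hq (by omega)
  have h9 : 1 ≤ q ^ k := Nat.one_le_pow _ _ hq1
  have h10 := (Nat.dvd_sub h8 h)
  have h11 : q ^ k - (q ^ k - 1) = 1 := by omega
  rw [h11] at h10
  exact hp.one_lt.ne' (Nat.dvd_one.1 h10)

theorem not_dvd_add_one {p q k : ℕ} (hp : p.Prime) (hq : p ∣ q) (hk : 1 ≤ k) : ¬ p ∣ q ^ k + 1 := by
  intro h
  have h8 : p ∣ q ^ k := dvd_pow hq (by omega)
  exact hp.one_lt.ne' (Nat.dvd_one.1 ((Nat.dvd_add_right h8).1 h))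

theorem exists_card {p : ℕ} [hp : Fact p.Prime] {F : Type*} [Field F] [Fintype F] (h : p ∣ Fintype.card F) :
    ∃ f, 1 ≤ f ∧ Fintype.card F = p ^ f ∧ CharP F p := by
  obtain ⟨r, hr⟩ := CharP.exists F
  obtain ⟨f, hr1, hf⟩ := FiniteField.card F r
  have h1 : p = r := (Nat.prime_dvd_prime_iff_eq hp.out hr1).1 (hp.out.dvd_of_dvd_pow (hf ▸ h))
  subst h1
  exact ⟨f, f.2, hf, hr⟩

end Cfsg.Agent.H634.El
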