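import Cfsg.Agent.H634.ElExc
import Cfsg.Agent.ClassificationK.GTwoChev

/-!
# Elimination: `G_2(q)`
-/

set_option autoImplicit false

open Cfsg Subgroup

namespace Cfsg.Agent.H634.El

open Cfsg.Agent.H634.HypS Cfsg.Agent.H634.Dim Cfsg.Agent.H634.Num Cfsg.Agent.OrdDiv
  Cfsg.Agent.ClassificationK.GTwoChev Cfsg.Agent.ChevalleyStructure.SL2Hom Cfsg.Agent.ChevalleyStructure.SL2Rep

/-- `-1` is a value of `a² - ac + c²`. -/
theorem exists_form {F : Type*} [Field F] [Fintype F] (h3 : (3 : F) ≠ 0) : ∃ a c : F, a ^ 2 - a * c + c ^ 2 = -1 := by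
  by_cases h2 : (2 : F) = 0
  · refine ⟨1, 0, ?_⟩
    linear_combination h2
  · have hodd : Fintype.card F % 2 = 1 := by
      rw [FiniteField.odd_card_of_char_ne_two]
      intro h
      apply h2
      have : CharP F 2 := (ringChar.eq_iff).1 h
      exact CharTwo.two_eq_zero
    have d1 : (Polynomial.X ^ 2 : Polynomial F).degree = 2 := Polynomial.degree_X_pow 2
    have hc : (3 / 4 : F) ≠ 0 := by
      apply div_ne_zero h3
      have : (4 : F) = 2 * 2 := by norm_num
      rw [this]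
      exact mul_ne_zero h2 h2
    have d2 : (Polynomial.C (3 / 4 : F) * Polynomial.X ^ 2 + Polynomial.C 1 : Polynomial F).degree = 2 := by
      rw [Polynomial.degree_add_C (by rw [Polynomial.degree_C_mul hc, d1]; norm_num), Polynomial.degree_C_mul hc, d1]
    obtain ⟨x, y, hxy⟩ := FiniteField.exists_root_sum_quadratic d1 d2 hodd
    simp only [Polynomial.eval_pow, Polynomial.eval_X, Polynomial.eval_add, Polynomial.eval_mul,
      Polynomial.eval_C] at hxy
    refine ⟨x + y / 2, y, ?_⟩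
    have h4 : (4 : F) ≠ 0 := by
      have : (4 : F) = 2 * 2 := by norm_num
      rw [this]
      exact mul_ne_zero h2 h2
    field_simp
    field_simp at hxy
    linear_combination hxy

/-- The element of order three. -/
def w3 (F : Type*) [Field F] : Matrix.SpecialLinearGroup (Fin 2) F := wsl F * up (-1)

theorem coe_w3 {F : Type*} [Field F] : (w3 F).1 = !![0, -1; 1, -1] := by
  change ((wsl F).1 * !![1, -1; 0, 1] : Matrix (Fin 2) (Fin 2) F) = _
  rw [coe_wsl, Matrix.mul_fin_two]
  simp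

theorem w3_pow {F : Type*} [Field F] : w3 F ^ 3 = 1 := by
  apply Subtype.ext
  rw [Matrix.SpecialLinearGroup.coe_pow, coe_w3, pow_succ, pow_two, Matrix.mul_fin_two, Matrix.mul_fin_two,
    Matrix.SpecialLinearGroup.coe_one, Matrix.one_fin_two]
  simp

theorem w3_real {F : Type*} [Field F] [Fintype F] (h3 : (3 : F) ≠ 0) : IsConj (w3 F) (w3 F)⁻¹ := by
  obtain ⟨a, c, h⟩ := exists_form h3
  have hdet : (!![a, c - a; c, -a] : Matrix (Fin 2) (Fin 2) F).det = 1 := by
    rw [Matrix.det_fin_two_of]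
    linear_combination -h
  obtain ⟨g, hg⟩ : ∃ g : Matrix.SpecialLinearGroup (Fin 2) F, g.1 = !![a, c - a; c, -a] := ⟨⟨_, hdet⟩, rfl⟩
  rw [isConj_iff]
  refine ⟨g, ?_⟩
  rw [mul_inv_eq_iff_eq_mul]
  apply Subtype.ext
  rw [Matrix.SpecialLinearGroup.coe_mul, Matrix.SpecialLinearGroup.coe_mul, Matrix.SpecialLinearGroup.coe_inv,
    coe_w3, Matrix.adjugate_fin_two_of, hg]
  rw [Matrix.mul_fin_two, Matrix.mul_fin_two]
  ext i j
  fin_cases i <;> fin_cases j <;> simp <;> ring

theorem ph_w3_ne_one {F : Type*} [Field F] : ph11 F (w3 F) ≠ 1 := by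
  intro h
  have h1 : ph11 F (wsl F) = ph11 F (up 1) := by
    have h2 : w3 F * up 1 = wsl F := by
      rw [w3, mul_assoc]
      have : (up (-1) * up 1 : Matrix.SpecialLinearGroup (Fin 2) F) = 1 := by
        apply Subtype.ext
        change (!![1, -1; 0, 1] * !![1, 1; 0, 1] : Matrix (Fin 2) (Fin 2) F) = 1
        rw [Matrix.mul_fin_two, Matrix.one_fin_two]
        simp
      rw [this, mul_one]
    rw [← h2, map_mul, h, one_mul]
  have h2 := congrArg (ph11 F) (wsl_up (F := F) 1)
  rw [map_mul, map_mul, h1] at h2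
  have h3 := mul_right_cancel h2
  have h4 := congrArg mat h3
  rw [m11u, m11l] at h4
  have h5 := congrFun (congrFun h4 (Sum.inr ⟨11, by decide⟩)) (Sum.inr ⟨0, by decide⟩)
  have h6 : Lie.chevG2.x F 11 1 (Sum.inr ⟨11, by decide⟩) (Sum.inr ⟨0, by decide⟩) = -(1 ^ 2) := rfl
  have h7 : Lie.chevG2.x F 0 (-1) (Sum.inr ⟨11, by decide⟩) (Sum.inr ⟨0, by decide⟩) = 0 := rfl
  rw [h6, h7] at h5
  simp at h5

variable {p n t : ℕ} {S : Type*} [Group S]

theorem g2_false [hp : Fact p.Prime] [Finite S] (T : OrderTable.{0}) (s : Sit p n t S) {F : Type} [Field F] [Fintype F]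
    (e : S ≃* ↥(Lie.chevG2.group F)) : False := by
  obtain ⟨rfl, rfl, rfl, h3⟩ := g2_reduce T s e
  have h30 : (3 : F) ≠ 0 := by
    have := natCast_ne_zero h3
    exact_mod_cast this
  have h1 : Even 13 := by
    refine s.real (e.symm (ph11 F (w3 F))) (PEl.of_pow ?_) ?_ ?_
    · rw [← map_pow, ← map_pow, w3_pow, map_one, map_one]
    · intro h
      exact ph_w3_ne_one (e.symm.injective (h.trans (map_one _).symm))
    · rw [← map_inv, ← map_inv]
      exact isConj_map e.symm.toMonoidHom (isConj_map (ph11 F) (w3_real h30))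
  exact absurd h1 (by decide)

end Cfsg.Agent.H634.El
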