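import Mathlib
import Cfsg.Agent.H634.Fus
import Cfsg.Agent.H632.Four.Fs

/-!
# One class of `p`-elements, `k(B₀) = 4`, `l(B₀) = 2`: the data of `C(x) / ⟨x⟩`
-/

set_option autoImplicit false

open Cfsg

namespace Cfsg.Agent.H634.CaseB

open Cfsg.Agent.H632.Four (fs)
open scoped ComplexConjugate

/-- The restrictions to `p`-regular elements of the characters of the principal block of `H`, with
its kernel function and its sum of Frobenius-Schur indicators. -/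
structure CBar (p : ℕ) (M : Ideal AlgInt) {H : Type*} [Group H] [Finite H] (ξ : IrrCharacter H)
    (t : ℕ) (α ν : ℤ) : Prop where
  mem : ξ ∈ principalBlock M H
  ne : ∃ h : H, ¬ p ∣ orderOf h ∧ (ξ : H → ℂ) h ≠ (ξ : H → ℂ) 1
  sgn_α : α = 1 ∨ α = -1
  sgn_ν : ν = 1 ∨ ν = -1
  real : ∀ h : H, conj ((ξ : H → ℂ) h) = (ξ : H → ℂ) h
  span : ∀ θ ∈ principalBlock M H, ∃ m n : ℤ, ∀ h : H, ¬ p ∣ orderOf h →
    (θ : H → ℂ) h = m + n * (ξ : H → ℂ) h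
  kernel : ∀ h h' : H, ¬ p ∣ orderOf h → ¬ p ∣ orderOf h' →
    ∑ᶠ θ ∈ principalBlock M H, (θ : H → ℂ) h * conj ((θ : H → ℂ) h') =
      (1 + t) * (1 + (ξ : H → ℂ) h * (ξ : H → ℂ) h') +
        α * t * ((ξ : H → ℂ) h + (ξ : H → ℂ) h')
  fsum : ∀ h : H, ¬ p ∣ orderOf h →
    ∑ᶠ θ ∈ principalBlock M H, fs (θ : H → ℂ) * (θ : H → ℂ) h =
      (1 + t * ν * α) + ν * (1 + t) * (ξ : H → ℂ) h

end Cfsg.Agent.H634.CaseB
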