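import Cfsg.Agent.H634.ElMain

/-!
# Elimination, odd rank: no condition on `p` modulo 4
-/

set_option autoImplicit false

open Cfsg Subgroup

namespace Cfsg.Agent.H634.El

open Cfsg.Agent.H634.HypS Cfsg.Agent.H634.Dim Cfsg.Agent.H634.Num Cfsg.Agent.OrdDiv

/-- the check -/
def ok2 (N exc : ℕ) : Bool :=
  ((fc N).map fun x => x.1 ^ x.2).prod == N &&
  (fc N).all fun x => (N % x.1 ^ (x.2 + 1) != 0) && ((x.1 == exc) || (x.1 == 2) || decide (x.2 < 3) ||
    (x.2 % 2 == 0) || (N % (x.1 ^ x.2 * ((x.1 ^ x.2 - 1) / 2)) != 0))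

/-- the second exception -/
def exc2 : Grp → ℕ
  | .th => 5
  | g => exc g

theorem ok2_spor : ∀ x ∈ spor, ok2 x.2 (exc2 x.1) = true := by decide +kernel

theorem eq_of_ok2 {N ex p n : ℕ} (h : ok2 N ex = true) (hp : p.Prime) (h2 : p ≠ 2) (hn : 3 ≤ n)
    (ho : n % 2 = 1) (hd : p ^ n ∣ N)
    (hm : ¬ p ^ (n + 1) ∣ N) (ht : p ^ n * ((p ^ n - 1) / 2) ∣ N) : p = ex := by
  rw [ok2, Bool.and_eq_true, beq_iff_eq, List.all_eq_true] at h
  obtain ⟨h1, h2'⟩ := h
  have h3 : p ∣ ((fc N).map fun x => x.1 ^ x.2).prod := by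
    rw [h1]
    exact (dvd_pow_self _ (by omega)).trans hd
  rw [Prime.dvd_prod_iff hp.prime] at h3
  obtain ⟨a, ha, hpa⟩ := h3
  obtain ⟨x, hx, rfl⟩ := List.mem_map.1 ha
  have hxp : x.1.Prime := by
    obtain ⟨q, hq, rfl⟩ := List.mem_map.1 hx
    exact prs_prime q hq
  have h5 : p = x.1 := (Nat.prime_dvd_prime_iff_eq hp hxp).1 (hp.dvd_of_dvd_pow hpa)
  have h6 := h2' x hx
  rw [Bool.and_eq_true, bne_iff_ne] at h6
  obtain ⟨h7, h8⟩ := h6
  have h9 : x.1 ^ x.2 ∣ N := by
    conv_rhs => rw [← h1]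
    exact List.dvd_prod ha
  have h10 : n = x.2 := by
    rw [← h5] at h9 h7
    apply le_antisymm
    · by_contra hlt
      exact h7 (Nat.mod_eq_zero_of_dvd ((pow_dvd_pow p (by omega)).trans hd))
    · by_contra hlt
      exact hm ((pow_dvd_pow p (by omega)).trans h9)
  simp only [Bool.or_eq_true, beq_iff_eq, bne_iff_ne, decide_eq_true_eq] at h8
  rw [← h5, ← h10] at h8
  rcases h8 with (((h8 | h8) | h8) | h8) | h8
  · exact h8
  · exact absurd h8 h2
  · omega
  · omega
  · exact absurd (Nat.mod_eq_zero_of_dvd ht) h8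

universe u

/-- The Sylow 5-subgroups of `Th` are not abelian. -/
def ThFive.{v} : Prop := ∀ (S : Type v) [Group S], Cfsg.Spor.IsoTh S →
  ¬ ∀ Q : Subgroup S, IsPGroup 5 Q → ∀ a ∈ Q, ∀ b ∈ Q, a * b = b * a

theorem spor_false2 (hTh : ThFive.{u}) {S : Type u} [Group S] {p n t : ℕ} [hp : Fact p.Prime] [Finite S]
    (s : Sit p n t S) {x : Grp × ℕ} (hx : x ∈ spor)
    (hr : Real x.1 S) (hc : Nat.card S = x.2) : False := by
  have hp3 := s.p3
  have h1 := eq_of_ok2 (ok2_spor x hx) hp.out (by omega) s.n3 (Nat.odd_iff.1 s.odd) (hc ▸ s.pow_dvd)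
    (hc ▸ s.h.max) (hc ▸ s.half_dvd)
  obtain ⟨g, N⟩ := x
  dsimp only at h1 hr
  cases g
  case tits =>
    obtain ⟨e⟩ := hr
    have h1' : p = 3 := h1
    subst h1'
    exact tits_three (s.h.congr e)
  case ru =>
    obtain ⟨e⟩ := hr
    have h1' : p = 3 := h1
    subst h1'
    exact ru_three (s.h.congr (e.trans Cfsg.Agent.RuLat.Main.equiv))
  case on =>
    obtain ⟨e⟩ := hr
    have h1' : p = 7 := h1
    subst h1'
    exact on_seven (s.h.congr e) s.n3
  case th =>
    have h1' : p = 5 := h1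
    subst h1'
    exact hTh S hr s.h.comm
  all_goals exact absurd (show p = 0 from h1) (by omega)

theorem known_odd (T0 : OrderTable.{0}) (T : OrderTable.{u}) (hTh : ThFive.{u}) {S : Type u} [Group S]
    [Finite S] (hk : IsKnownSimple' S) (hna : ¬ ∀ a b : S, a * b = b * a) {p n : ℕ}
    [hp : Fact p.Prime] (h : Hyp p n S) (hp2 : p ≠ 2) (hn : 3 ≤ n) (ho : Odd n) :
    ∃ (F : Type) (_ : Field F) (_ : Fintype F), Fintype.card F = p ^ n ∧
      Nonempty (S ≃* Matrix.ProjectiveSpecialLinearGroup (Fin 2) F) := by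
  obtain ⟨t, s⟩ := exists_sit h hp2 hn ho
  have key : ∀ (g : Grp), g ∈ spor.map (fun x => x.1) → Real g S → False := fun g hg hr => by
    obtain ⟨x, hx, rfl⟩ := List.mem_map.1 hg
    exact spor_false2 hTh s hx hr (T.spor S x hx hr)
  rcases hk with h | h | h | h | h | h | h | h | h | h
  · exfalso
    have : Fact (Nat.card S).Prime := ⟨h⟩
    have : IsCyclic S := isCyclic_of_prime_card (p := Nat.card S) rfl
    exact hna fun a b => (IsCyclic.isMulCommutative (α := S)).is_comm.comm a b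
  · obtain ⟨m, hm, ⟨e⟩⟩ := h
    exact (alt_false s.h hp2 hn e).elim
  · obtain ⟨F, _, _, m, hm, hm2, ⟨e⟩⟩ := h
    by_cases hpF : p ∣ Fintype.card F
    · obtain ⟨rfl, hF⟩ := psl_defining s hm hpF e
      exact ⟨F, inferInstance, inferInstance, hF, ⟨e⟩⟩
    · exact (psl_cross s hm hpF e).elim
  · obtain ⟨F, _, _, m, hm, hm2, ⟨e⟩⟩ := h
    exact (psp_false s hm e).elim
  · obtain ⟨F, _, _, m, q, hF, hm, hm2, ⟨e⟩⟩ := h
    by_cases hpF : p ∣ q
    · exact (psu_defining s hm hF hpF e).elim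
    · exact (psu_cross s hm hF hpF e).elim
  · obtain ⟨F, _, _, m, hm, ho, ⟨e⟩⟩ := h
    exact (oodd_false s hm ho e).elim
  · obtain ⟨F, _, _, m, hm, ⟨e⟩⟩ := h
    exact (oplus_false s hm e).elim
  · obtain ⟨F, _, _, m, a, b, hm, hab, ⟨e⟩⟩ := h
    exact (ominus_false s hm hab e).elim
  · rcases h with h | h | h | h | h | h | h | h | h | h | h
    · obtain ⟨F, _, _, hq, ⟨e⟩⟩ := h
      exact (g2_false T0 s e).elim
    · obtain ⟨F, _, _, ⟨e⟩⟩ := h
      exact (f4_false T0 s e).elim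
    · obtain ⟨F, _, _, ⟨e⟩⟩ := h
      exact (e6_false T0 s e).elim
    · obtain ⟨F, _, _, ⟨e⟩⟩ := h
      exact (e7_false T0 s e).elim
    · obtain ⟨F, _, _, ⟨e⟩⟩ := h
      exact (e8_false T0 s e).elim
    · obtain ⟨F, _, _, q, hq, hF, ⟨e⟩⟩ := h
      exact (te6_false T0 s hq hF e).elim
    · obtain ⟨F, _, _, q, hq, hF, ⟨e⟩⟩ := h
      exact (td4_false T0 s hq hF e).elim
    · obtain ⟨F, _, _, m, hm, hF, ⟨e⟩⟩ := h
      exact (sz_false s hF e).elim
    · obtain ⟨F, _, _, m, hm, hF, ⟨e⟩⟩ := h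
      exact (ree_false T0 s hm hF e).elim
    · obtain ⟨F, _, _, m, hm, hF, ⟨e⟩⟩ := h
      exact (tf4_false s hF e).elim
    · exact (key .tits (by decide) h).elim
  · exfalso
    rcases h with h | h | h | h | h | h | h | h | h | h | h | h | h | h | h | h | h | h | h | h | h | h | h | h | h | h
    · exact key .m11 (by decide) h
    · exact key .m12 (by decide) h
    · exact key .m22 (by decide) h
    · exact key .m23 (by decide) h
    · exact key .m24 (by decide) h
    · exact key .j1 (by decide) h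
    · exact key .j2 (by decide) h
    · exact key .j3 (by decide) h
    · exact key .j4 (by decide) h
    · exact key .co1 (by decide) h
    · exact key .co2 (by decide) h
    · exact key .co3 (by decide) h
    · exact key .mcl (by decide) h
    · exact key .hs (by decide) h
    · exact key .suz (by decide) h
    · exact key .he (by decide) h
    · exact key .ru (by decide) h
    · exact key .on (by decide) h
    · exact key .ly (by decide) h
    · exact key .fi22 (by decide) h
    · exact key .fi23 (by decide) h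
    · exact key .fi24 (by decide) h
    · exact key .hn (by decide) h
    · exact key .th (by decide) h
    · exact key .b (by decide) h
    · exact key .m (by decide) h

end Cfsg.Agent.H634.El
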