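import Cfsg.Agent.H634.TwoC
import Cfsg.Agent.H634.ElOdd
import Cfsg.Agent.H634.Asm

/-!
# `k(B₀) = 4`, `l(B₀) = 2`, two classes of nontrivial `p`-elements
-/

set_option autoImplicit false

open Cfsg

namespace Cfsg.Agent.H634.CaseA

open Cfsg.Agent.H634.ZJ Cfsg.Agent.H634.Fus Cfsg.Agent.H634.HypS Cfsg.Agent.H634.TwoA
  Cfsg.Agent.H634.TwoB

universe u

/-- The reduction to a simple group. -/
def RedStmt.{v} : Prop := ∀ (G : Type v) [Group G] [Finite G] (p : ℕ) [Fact p.Prime] (M : Ideal AlgInt)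
    (_ : IsPModular p M) (_ : p ≠ 2) (_ : pPrimeCore p G = ⊥)
    (_ : OneClass p G ∨ NilCent p G) (P : Sylow p G)
    (_ : ∀ N : Subgroup G, N.Normal → p ∣ Nat.card N → (P : Subgroup G) ≤ N)
    (_ : 42 < Nat.card G) (_ : 1 < Nat.card P) (_ : ∀ a ∈ P, ∀ b ∈ P, a * b = b * a)
    (_ : Nat.card (principalBlock M G) = 4) (_ : blockRank p (principalBlock M G) = 2),
    ∃ S : Subgroup G, S.Normal ∧ IsSimpleGroup S ∧ (¬ ∀ a b : S, a * b = b * a) ∧
      (P : Subgroup G) ≤ S ∧ S ⊔ Subgroup.centralizer ((P : Subgroup G) : Set G) = ⊤ ∧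
      Nat.card (principalBlock M S) = 4 ∧
      ∀ x ∈ P, ∀ y ∈ P, IsConj x y → ∃ s ∈ S, s * x * s⁻¹ = y

theorem caseA (I : Asm.Inputs.{u}) (hTh : El.ThFive.{u}) (hR : RedStmt.{u}) {G : Type u} [Group G]
    [Finite G] {p : ℕ} [hp : Fact p.Prime] {M : Ideal AlgInt} (hM : IsPModular p M) (hp2 : p ≠ 2)
    (hcore : pPrimeCore p G = ⊥) (hk : Nat.card (principalBlock M G) = 4)
    (hl : blockRank p (principalBlock M G) = 2) {P : Sylow p G} (h : Two p G P) :
    Nat.card P = 5 := by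
  classical
  have hMp := Blocks.Local.isPrime_of_isPModular hM
  have := Fintype.ofFinite G
  obtain ⟨n, hn⟩ := Asm.card_sylow_pow P
  have hodd := TwoC.odd_of_mod (p := p) hp2 hn (TwoC.card_mod hM h hk)
  have hce := h.card_eq
  obtain ⟨j, hj⟩ := hodd
  rcases Nat.eq_zero_or_pos j with hj0 | hj0
  · -- order `p`
    have hn1 : n = 1 := by omega
    rw [hn1, pow_one] at hn
    have h1 := (S0960.result p M hM hp2 P hn _ rfl).1
    set e := (Subgroup.centralizer ((P : Subgroup G) : Set G)).relIndex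
      (Subgroup.normalizer ((P : Subgroup G) : Set G)) with he
    have h2 : 0 < e := by
      have := hp.out.two_le
      omega
    have h3 : (p - 1) / e = 2 := by
      have : p - 1 = 2 * e := by omega
      rw [this, Nat.mul_div_cancel _ h2]
    rw [h3, hk] at h1
    omega
  · exfalso
    have hn3 : 3 ≤ n := by omega
    have hp3 : 3 ≤ p := by
      have := hp.out.two_le
      omega
    have h27 : 27 ≤ p ^ n := by
      calc 27 = 3 ^ 3 := by norm_num
        _ ≤ p ^ 3 := Nat.pow_le_pow_left hp3 3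
        _ ≤ p ^ n := Nat.pow_le_pow_right hp.out.pos hn3
    have hcomm := h.comm
    have hHyp := h.hyp hn
    have h42 : 42 < Nat.card G := by
      have h1 := Nat.le_of_dvd Nat.card_pos (hHyp.mul_dvd P)
      have h2 : 13 ≤ (Subgroup.centralizer ((P : Subgroup G) : Set G)).relIndex
          (Subgroup.normalizer ((P : Subgroup G) : Set G)) := by omega
      have h3 := Nat.mul_le_mul h27 h2
      omega
    obtain ⟨S, hSn, hSs, hna, hPS, -, hkS, hfus⟩ := hR G p M hM hp2 hcore (Or.inr h.nil) P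
      (fun N hNn hpN => h.le_normal hNn hpN) h42 (by omega) hcomm hk hl
    have hS := h.sub hPS hfus
    have hPc : Nat.card (P.subtype hPS) = p ^ n := by
      rw [← hn]
      exact Nat.card_congr (Subgroup.subgroupOfEquivOfLe hPS).toEquiv
    obtain ⟨F, hF1, hF2, hFc, ⟨e⟩⟩ := El.known_odd I.T0 I.T hTh (I.known S) hna (hS.hyp hPc) hp2 hn3
      ⟨j, hj⟩
    exact TwoC.psl_false hM hS hkS (by rw [hPc]; exact h27) (F := F) (hFc.trans hPc.symm) e

end Cfsg.Agent.H634.CaseA
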