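import Cfsg.Agent.H634.TwoA
import Cfsg.Agent.H634.Red

/-!
# Two classes of nontrivial `p`-elements with `p`-nilpotent centralizers
-/

set_option autoImplicit false

open Cfsg

namespace Cfsg.Agent.H634.TwoB

open Cfsg.Agent.H634.ZJ Cfsg.Agent.H634.Fus Cfsg.Agent.H634.HypS Cfsg.Agent.H634.TwoA

variable {G : Type*} [Group G] [Finite G] {p : ℕ} [hp : Fact p.Prime]

/-- The situation: `P` abelian, two classes, free action. -/
structure Two (p : ℕ) (G : Type*) [Group G] (P : Sylow p G) : Prop where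
  nil : NilCent p G
  two : TwoClass p G
  comm : ∀ a ∈ P, ∀ b ∈ P, a * b = b * a
  ex : ∃ x y : G, PEl p x ∧ x ≠ 1 ∧ PEl p y ∧ y ≠ 1 ∧ ¬ IsConj x y

/-- A `p`-element is conjugate into `P`. -/
theorem exists_conj (P : Sylow p G) {x : G} (hx : PEl p x) : ∃ y ∈ P, IsConj x y := by
  obtain ⟨Q, hQ⟩ := hx.exists_sylow
  obtain ⟨g, hg⟩ := MulAction.exists_smul_eq G Q P
  refine ⟨g * x * g⁻¹, ?_, isConj_iff.2 ⟨g, rfl⟩⟩
  rw [← hg]
  exact ⟨x, hQ, rfl⟩

omit [Finite G] in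
theorem ne_one_of_isConj {x y : G} (h : IsConj x y) (hx : x ≠ 1) : y ≠ 1 := by
  rintro rfl
  exact hx (isConj_one_right.1 h.symm)

/-- A nontrivial subgroup of `P` has order divisible by `p`. -/
theorem dvd_card_of_le (P : Sylow p G) {Q : Subgroup G} (hQ : Q ≤ P) (h1 : Q ≠ ⊥) :
    p ∣ Nat.card Q := by
  have hQp : IsPGroup p Q := P.isPGroup'.to_le hQ
  obtain ⟨k, hk⟩ := hQp.exists_card_eq
  rcases Nat.eq_zero_or_pos k with rfl | hk0
  · exact absurd (Subgroup.eq_bot_of_card_eq _ (by rw [hk, pow_zero])) h1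
  · rw [hk]; exact dvd_pow_self p hk0.ne'

namespace Two

variable {P : Sylow p G} (h : Two p G P)

include h

/-- Representatives in `P`. -/
theorem exists_reps : ∃ x ∈ P, ∃ y ∈ P, x ≠ 1 ∧ y ≠ 1 ∧ ¬ IsConj x y := by
  obtain ⟨x, y, hx, hx1, hy, hy1, hxy⟩ := h.ex
  obtain ⟨x', hx', hxx⟩ := exists_conj P hx
  obtain ⟨y', hy', hyy⟩ := exists_conj P hy
  exact ⟨x', hx', y', hy', ne_one_of_isConj hxx hx1, ne_one_of_isConj hyy hy1,
    fun hc => hxy (hxx.trans (hc.trans hyy.symm))⟩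

omit [Finite G] h in
theorem pel {x : G} (hx : x ∈ P) : PEl p x := PEl.of_mem P.isPGroup' hx

/-- `|P| = 2 e + 1`. -/
theorem card_eq : Nat.card P = 2 * (Subgroup.centralizer ((P : Subgroup G) : Set G)).relIndex
    (Subgroup.normalizer ((P : Subgroup G) : Set G)) + 1 := by
  classical
  obtain ⟨x, hx, y, hy, hx1, hy1, hxy⟩ := h.exists_reps
  set e := (Subgroup.centralizer ((P : Subgroup G) : Set G)).relIndex
    (Subgroup.normalizer ((P : Subgroup G) : Set G)) with he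
  have h1 := ncard_isConj h.nil P h.comm hx hx1
  have h2 := ncard_isConj h.nil P h.comm hy hy1
  have hdisj : Disjoint {z : G | z ∈ P ∧ IsConj x z} {z : G | z ∈ P ∧ IsConj y z} := by
    rw [Set.disjoint_left]
    rintro z ⟨-, hz1⟩ ⟨-, hz2⟩
    exact hxy (hz1.trans hz2.symm)
  have hun : {z : G | z ∈ P ∧ IsConj x z} ∪ {z : G | z ∈ P ∧ IsConj y z} =
      ((P : Subgroup G) : Set G) \ {1} := by
    ext z
    constructor
    · rintro (⟨hz, hz1⟩ | ⟨hz, hz1⟩)
      · exact ⟨hz, ne_one_of_isConj hz1 hx1⟩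
      · exact ⟨hz, ne_one_of_isConj hz1 hy1⟩
    · rintro ⟨hz, hz1⟩
      rw [Set.mem_singleton_iff] at hz1
      rcases h.two x y z (pel hx) hx1 (pel hy) hy1 (pel hz) hz1 with h3 | h3 | h3
      · exact absurd h3 hxy
      · exact Or.inr ⟨hz, h3⟩
      · exact Or.inl ⟨hz, h3⟩
  have h3 := Set.ncard_union_eq hdisj (Set.toFinite _) (Set.toFinite _)
  rw [hun, Set.ncard_sdiff_singleton_of_mem (P : Subgroup G).one_mem, h1, h2] at h3
  have h4 : ((P : Subgroup G) : Set G).ncard = Nat.card P := rfl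
  have h5 : 0 < Nat.card P := Nat.card_pos
  omega

/-- A subgroup of `P` with `e + 1` elements does not exist. -/
theorem card_ne {Q : Subgroup G} (hQ : Q ≤ P) (h1 : Q ≠ ⊥) :
    Nat.card Q ≠ (Subgroup.centralizer ((P : Subgroup G) : Set G)).relIndex
      (Subgroup.normalizer ((P : Subgroup G) : Set G)) + 1 := by
  intro h2
  have h3 := dvd_card_of_le P hQ h1
  have hP1 : (P : Subgroup G) ≠ ⊥ := fun h0 => h1 (le_bot_iff.1 (h0 ▸ hQ))
  have h4 := dvd_card_of_le P le_rfl hP1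
  have h5 := h.card_eq
  have h6 : Nat.card (P : Subgroup G) = Nat.card P := rfl
  rw [h6, h5] at h4
  rw [h2] at h3
  have h7 : p ∣ 1 := by
    have h8 := (Nat.dvd_sub (h3.mul_left 2) h4)
    have h9 : ∀ e : ℕ, 2 * (e + 1) - (2 * e + 1) = 1 := fun e => by omega
    rwa [h9] at h8
  exact hp.out.one_lt.ne' (Nat.dvd_one.1 h7)

/-- A subgroup of `P` whose nontrivial elements form a class is impossible. -/
theorem class_ne {Q : Subgroup G} (hQ : Q ≤ P) {x : G} (hx : x ∈ Q) (hx1 : x ≠ 1)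
    (hall : ∀ z ∈ P, z ≠ 1 → (z ∈ Q ↔ IsConj x z)) : False := by
  have h1 := ncard_isConj h.nil P h.comm (hQ hx) hx1
  have h2 : {z : G | z ∈ P ∧ IsConj x z} = (Q : Set G) \ {1} := by
    ext z
    constructor
    · rintro ⟨hz, hz1⟩
      have hz2 := ne_one_of_isConj hz1 hx1
      exact ⟨(hall z hz hz2).2 hz1, hz2⟩
    · rintro ⟨hz, hz1⟩
      exact ⟨hQ hz, (hall z (hQ hz) hz1).1 hz⟩
  rw [h2, Set.ncard_sdiff_singleton_of_mem Q.one_mem] at h1
  have h3 : (Q : Set G).ncard = Nat.card Q := rfl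
  refine h.card_ne hQ (fun h0 => hx1 ?_) (by
    have : 0 < Nat.card Q := Nat.card_pos
    omega)
  rw [h0, Subgroup.mem_bot] at hx
  exact hx

/-- `P` has exponent `p`. -/
theorem exp {z : G} (hz : z ∈ P) : z ^ p = 1 := by
  by_contra hzp
  let Q : Subgroup G :=
    { carrier := {w | w ∈ P ∧ w ^ p = 1}
      mul_mem' := by
        rintro a b ⟨ha, ha'⟩ ⟨hb, hb'⟩
        refine ⟨(P : Subgroup G).mul_mem ha hb, ?_⟩
        rw [(show Commute a b from h.comm a ha b hb).mul_pow, ha', hb', one_mul]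
      one_mem' := ⟨(P : Subgroup G).one_mem, one_pow p⟩
      inv_mem' := by
        rintro a ⟨ha, ha'⟩
        exact ⟨(P : Subgroup G).inv_mem ha, by rw [inv_pow, ha', inv_one]⟩ }
  have hQP : Q ≤ P := fun w hw => hw.1
  have hz1 : z ≠ 1 := fun h0 => hzp (by rw [h0, one_pow])
  -- an element of order `p`
  obtain ⟨k, hk⟩ := pel hz
  have hk0 : k ≠ 0 := by
    rintro rfl
    rw [pow_zero, orderOf_eq_one_iff] at hk
    exact hz1 hk
  obtain ⟨w, hwP, hw⟩ : ∃ w ∈ P, orderOf w = p := by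
    have h1 : p ∣ Nat.card (P : Subgroup G) := dvd_card_of_le P le_rfl (fun h0 => hz1 (by
      have : z ∈ (P : Subgroup G) := hz
      rw [h0, Subgroup.mem_bot] at this
      exact this))
    obtain ⟨w, hw⟩ := exists_prime_orderOf_dvd_card' p h1
    exact ⟨w, w.2, by rw [Subgroup.orderOf_coe, hw]⟩
  have hw1 : w ≠ 1 := by
    rintro rfl
    rw [orderOf_one] at hw
    exact hp.out.one_lt.ne hw
  have hord : ∀ u v : G, IsConj u v → orderOf u = orderOf v := by
    intro u v huv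
    obtain ⟨c, hc⟩ := isConj_iff.1 huv
    rw [← hc]
    exact (MulEquiv.orderOf_eq (MulAut.conj c) u).symm
  have hwQ : w ∈ Q := ⟨hwP, by rw [← hw, pow_orderOf_eq_one]⟩
  have hwz : ¬ IsConj w z := by
    intro hc
    apply hzp
    rw [← hw, hord w z hc, pow_orderOf_eq_one]
  refine h.class_ne hQP hwQ hw1 fun v hv hv1 => ?_
  constructor
  · rintro ⟨-, hvp⟩
    rcases h.two w z v (pel hwP) hw1 (pel hz) hz1 (pel hv) hv1 with h1 | h1 | h1
    · exact absurd h1 hwz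
    · exfalso
      apply hzp
      have h2 : orderOf v ∣ p := orderOf_dvd_of_pow_eq_one hvp
      rw [← hord z v h1] at h2
      exact orderOf_dvd_iff_pow_eq_one.1 h2
    · exact h1
  · intro hc
    refine ⟨hv, ?_⟩
    rw [← hw, hord w v hc, pow_orderOf_eq_one]

/-- A normal subgroup of order divisible by `p` contains `P`. -/
theorem le_normal {N : Subgroup G} (hNn : N.Normal) (hpN : p ∣ Nat.card N) :
    (P : Subgroup G) ≤ N := by
  obtain ⟨x0, hx0N, hx0, hx01⟩ := Red.exists_pel (p := p) hpN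
  obtain ⟨x, hxP, hxx⟩ := exists_conj P hx0
  have hx1 := ne_one_of_isConj hxx hx01
  have hcl : ∀ a b : G, IsConj a b → a ∈ N → b ∈ N := by
    intro a b hab ha
    obtain ⟨c, rfl⟩ := isConj_iff.1 hab
    exact hNn.conj_mem a ha c
  have hxN : x ∈ N := hcl _ _ hxx hx0N
  by_contra hcon
  obtain ⟨y, hyP, hyN⟩ := SetLike.not_le_iff_exists.1 hcon
  have hy1 : y ≠ 1 := by
    rintro rfl
    exact hyN N.one_mem
  have hxy : ¬ IsConj x y := fun hc => hyN (hcl _ _ hc hxN)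
  refine h.class_ne (Q := N ⊓ P) inf_le_right ⟨hxN, hxP⟩ hx1 fun z hz hz1 => ?_
  constructor
  · rintro ⟨hzN, -⟩
    rcases h.two x y z (pel hxP) hx1 (pel hyP) hy1 (pel hz) hz1 with h1 | h1 | h1
    · exact absurd h1 hxy
    · exact absurd (hcl _ _ h1.symm hzN) hyN
    · exact h1
  · intro hc
    exact ⟨hcl _ _ hc hxN, hz⟩

/-- `Hyp` for `G`. -/
theorem hyp {n : ℕ} (hP : Nat.card P = p ^ n) : Hyp p n G := by
  have h1 : Nat.card P = p ^ (Nat.card G).factorization p := P.card_eq_multiplicity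
  have h2 : n = (Nat.card G).factorization p := by
    rw [hP] at h1
    exact Nat.pow_right_injective hp.out.two_le h1
  refine ⟨h.nil, h.two, ?_, ?_, ?_, ?_⟩
  · intro Q hQ a ha b hb
    obtain ⟨R, hR⟩ := hQ.exists_le_sylow
    obtain ⟨g, hg⟩ := MulAction.exists_smul_eq G R P
    have hmem : ∀ w ∈ Q, g * w * g⁻¹ ∈ P := by
      intro w hw
      rw [← hg]
      exact ⟨w, hR hw, rfl⟩
    have h3 := h.comm _ (hmem a ha) _ (hmem b hb)
    have h4 : g * (a * b) * g⁻¹ = g * (b * a) * g⁻¹ := by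
      calc g * (a * b) * g⁻¹ = g * a * g⁻¹ * (g * b * g⁻¹) := by group
        _ = g * b * g⁻¹ * (g * a * g⁻¹) := h3
        _ = g * (b * a) * g⁻¹ := by group
    exact mul_left_cancel (mul_right_cancel h4)
  · intro x hx
    obtain ⟨y, hyP, hxy⟩ := exists_conj P hx
    obtain ⟨c, hc⟩ := isConj_iff.1 hxy
    have h3 := h.exp hyP
    rw [← hc, conj_pow] at h3
    rw [mul_inv_eq_one] at h3
    exact mul_left_cancel (a := c) (by rw [h3, mul_one])
  · rw [h2]
    exact Nat.ordProj_dvd _ _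
  · intro h3
    have := (hp.out.pow_dvd_iff_le_factorization Nat.card_pos.ne').1 h3
    omega

end Two

/-- Conjugate `p`-elements of `S` are conjugate in `S`. -/
theorem isConj_sub {S : Subgroup G} (P : Sylow p G) (hPS : (P : Subgroup G) ≤ S)
    (hfus : ∀ x ∈ P, ∀ y ∈ P, IsConj x y → ∃ s ∈ S, s * x * s⁻¹ = y) {x y : S} (hx : PEl p x)
    (hy : PEl p y) (hxy : IsConj (x : G) y) : IsConj x y := by
  obtain ⟨a, ha, hax⟩ := Red.exists_conj_mem P hPS x.2 (hx.map hp.out S.subtype)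
  obtain ⟨b, hb, hby⟩ := Red.exists_conj_mem P hPS y.2 (hy.map hp.out S.subtype)
  obtain ⟨s, hs, he⟩ := hfus _ hax _ hby (((isConj_iff.2 ⟨a, rfl⟩ : IsConj (x : G) _).symm.trans
    hxy).trans (isConj_iff.2 ⟨b, rfl⟩))
  refine isConj_iff.2 ⟨⟨b⁻¹ * s * a, S.mul_mem (S.mul_mem (S.inv_mem hb) hs) ha⟩, ?_⟩
  apply Subtype.ext
  change (b⁻¹ * s * a) * (x : G) * (b⁻¹ * s * a)⁻¹ = y
  calc (b⁻¹ * s * a) * (x : G) * (b⁻¹ * s * a)⁻¹ = b⁻¹ * (s * (a * x * a⁻¹) * s⁻¹) * b := by group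
    _ = b⁻¹ * (b * y * b⁻¹) * b := by rw [he]
    _ = y := by group

omit [Finite G] in
theorem ne_coe {S : Subgroup G} {x : S} (hx : x ≠ 1) : (x : G) ≠ 1 := fun h => hx (Subtype.ext h)

theorem oneClass_sub {S : Subgroup G} (P : Sylow p G) (hPS : (P : Subgroup G) ≤ S)
    (hfus : ∀ x ∈ P, ∀ y ∈ P, IsConj x y → ∃ s ∈ S, s * x * s⁻¹ = y) (hC : OneClass p G) :
    OneClass p S := fun x y hx hx1 hy hy1 =>
  isConj_sub P hPS hfus hx hy (hC x y (PEl.map hx hp.out S.subtype) (ne_coe hx1)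
    (PEl.map hy hp.out S.subtype) (ne_coe hy1))

theorem twoClass_sub {S : Subgroup G} (P : Sylow p G) (hPS : (P : Subgroup G) ≤ S)
    (hfus : ∀ x ∈ P, ∀ y ∈ P, IsConj x y → ∃ s ∈ S, s * x * s⁻¹ = y) (hT : TwoClass p G) :
    TwoClass p S := by
  intro x y z hx hx1 hy hy1 hz hz1
  rcases hT x y z (PEl.map hx hp.out S.subtype) (ne_coe hx1) (PEl.map hy hp.out S.subtype) (ne_coe hy1)
    (PEl.map hz hp.out S.subtype) (ne_coe hz1) with h1 | h1 | h1
  · exact Or.inl (isConj_sub P hPS hfus hx hy h1)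
  · exact Or.inr (Or.inl (isConj_sub P hPS hfus hy hz h1))
  · exact Or.inr (Or.inr (isConj_sub P hPS hfus hx hz h1))

theorem Two.sub {S : Subgroup G} {P : Sylow p G} (h : Two p G P) (hPS : (P : Subgroup G) ≤ S)
    (hfus : ∀ x ∈ P, ∀ y ∈ P, IsConj x y → ∃ s ∈ S, s * x * s⁻¹ = y) :
    Two p S (P.subtype hPS) := by
  refine ⟨h.nil.of_injective S.subtype S.subtype_injective, twoClass_sub P hPS hfus h.two, ?_, ?_⟩
  · intro a ha b hb
    apply Subtype.ext
    exact h.comm a ha b hb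
  · obtain ⟨x, hx, y, hy, hx1, hy1, hxy⟩ := h.exists_reps
    refine ⟨⟨x, hPS hx⟩, ⟨y, hPS hy⟩, ?_, ?_, ?_, ?_, ?_⟩
    · exact PEl.of_injective S.subtype S.subtype_injective (pel hx)
    · exact fun h0 => hx1 (congrArg Subtype.val h0)
    · exact PEl.of_injective S.subtype S.subtype_injective (pel hy)
    · exact fun h0 => hy1 (congrArg Subtype.val h0)
    · intro hc
      exact hxy (isConj_map S.subtype hc)

end Cfsg.Agent.H634.TwoB
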