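import Cfsg.Agent.H71.HSpanQuot
import Cfsg.Agent.H667.K4.IntCoeff
import Cfsg.Agent.H667.K4.RealBlock
import Cfsg.Agent.H248.K4.Numeric
import Cfsg.Agent.H634.TwoB
import Cfsg.Agent.H634.CaseBDef
import Cfsg.Agent.H634.Asm
import Cfsg.Agent.H62.SecKernel
import Cfsg.Agent.H446.ExtraAct
import Cfsg.Agent.H650.E27Central
import Cfsg.Agent.S0158

/-!
# One class, `k(B₀) = 4`, `l(B₀) = 2`: Sylow subgroups of order `p²` or extraspecial
-/

set_option autoImplicit false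

open Cfsg

namespace Cfsg.Agent.H634.CaseB

open Cfsg.Agent.H634.Fus Cfsg.Agent.H634.HypS Cfsg.Agent.H634.ZJ Cfsg.Agent.H634.TwoA
open Cfsg.Agent.H667.K4 (int_coeff real_block)
open Cfsg.Agent.H248.K4 (numeric)
open Cfsg.Agent.H71.HSpanQuot (hspan_quot)
open Cfsg.Agent.H632.Four (fs fs_section fs_quot fs_eq_sum)
open Cfsg.Agent.H644.CentralQuot
open scoped ComplexConjugate

universe u

/-- The indicator of a real irreducible character. -/
theorem fs_real {X : Type*} [Group X] [Finite X] (χ : IrrCharacter X)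
    (h : ∀ g, conj ((χ : X → ℂ) g) = (χ : X → ℂ) g) : ∃ ν : ℤ, (ν = 1 ∨ ν = -1) ∧
      fs (χ : X → ℂ) = ν := by
  have := Fintype.ofFinite X
  rw [fs_eq_sum]
  obtain ⟨n, ρ, hρ, hχ⟩ := χ.2
  have h1 := S0158.result ρ
  have h2 : ¬ ∃ s : X, (ρ.character s).im ≠ 0 := by
    push Not
    intro s
    have h3 := h s
    rw [← hχ] at h3
    exact Complex.conj_eq_iff_im.1 h3
  rw [← hχ]
  rcases h1.1 with h4 | h4 | h4
  · exact (h2 (h1.2.1 h4)).elim
  · exact ⟨1, Or.inl rfl, by rw [h4]; simp⟩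
  · exact ⟨-1, Or.inr rfl, by rw [h4]; simp⟩

/-- Independence of `1` and `ξ`. -/
theorem lin_indep {e f A B : ℂ} (hef : e ≠ f) (h1 : A + B * e = 0) (h2 : A + B * f = 0) :
    A = 0 ∧ B = 0 := by
  have h3 : B * (e - f) = 0 := by linear_combination h1 - h2
  have h4 : B = 0 := (mul_eq_zero.1 h3).resolve_right (sub_ne_zero.2 hef)
  refine ⟨?_, h4⟩
  rw [h4, zero_mul, add_zero] at h1
  exact h1

section core

variable {G : Type u} [Group G] [Finite G] {p : ℕ} [hp : Fact p.Prime] {M : Ideal AlgInt}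

/-- `C(x)`. -/
abbrev Cx (x : G) : Subgroup G := Subgroup.centralizer ({x} : Set G)

/-- `x` as an element of `C(x)`. -/
def xc (x : G) : Cx x := ⟨x, Subgroup.mem_centralizer_singleton_iff.2 rfl⟩

/-- `⟨x⟩` as a subgroup of `C(x)`. -/
abbrev Ux (x : G) : Subgroup (Cx x) := Subgroup.zpowers (xc x)

omit [Finite G] in
theorem xc_mem (x : G) : xc x ∈ Subgroup.center (Cx x) := by
  rw [Subgroup.mem_center_iff]
  intro g
  exact Subtype.ext (Subgroup.mem_centralizer_singleton_iff.1 g.2)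

omit [Finite G] in
theorem Ux_le (x : G) : Ux x ≤ Subgroup.center (Cx x) := by
  rw [Subgroup.zpowers_le]
  exact xc_mem x

instance Ux_normal (x : G) : (Ux x).Normal where
  conj_mem n hn g := by
    have h1 := Subgroup.mem_center_iff.1 (Ux_le x hn) g
    rw [h1, mul_inv_cancel_right]
    exact hn

omit [Finite G] in
theorem card_Ux (x : G) : Nat.card (Ux x) = orderOf x := by
  rw [Nat.card_zpowers]
  exact (orderOf_injective (Cx x).subtype Subtype.val_injective (xc x)).symm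

omit [Finite G] in
theorem orderOf_coe' {x : G} (h : Cx x) : orderOf (h : G) = orderOf h :=
  orderOf_injective (Cx x).subtype Subtype.val_injective h

theorem core (hM : IsPModular p M) (hp2 : p ≠ 2) (hC : OneClass p G)
    (hk : Nat.card (principalBlock M G) = 4) (hl : blockRank p (principalBlock M G) = 2)
    {x : G} (hx1 : x ≠ 1) (hxo : orderOf x = p) {ξ : IrrCharacter (Cx x ⧸ Ux x)} {t : ℕ}
    {α ν₀ : ℤ} (h : CBar p M ξ t α ν₀)
    (hc : (p = 2 * t + 1 ∧ 5 ≤ p) ∨ (p = 3 ∧ t = 4) ∨ (p = 5 ∧ t = 12)) : False := by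
  classical
  have hMp := Blocks.Local.isPrime_of_isPModular hM
  have := Fintype.ofFinite G
  have : Finite (IrrCharacter G) := Characters.Core.finite_irr
  have := Fintype.ofFinite (IrrCharacter G)
  have hx : PEl p x := ⟨1, by rw [hxo, pow_one]⟩
  have hUp : IsPGroup p (Ux x) := IsPGroup.of_card (n := 1) (by rw [card_Ux, hxo, pow_one])
  set η : IrrCharacter (Cx x) := infl (Ux x) ξ with hη
  have hηB : η ∈ principalBlock M (Cx x) :=
    (H62.SecKernel.infl_mem_iff hM (Ux_le x) hUp ξ).2 h.mem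
  have hηv : ∀ g : Cx x, (η : Cx x → ℂ) g = (ξ : Cx x ⧸ Ux x → ℂ) (g : Cx x ⧸ Ux x) := fun g =>
    infl_apply _ _ _
  have hspan : ∀ ψ ∈ principalBlock M (Cx x), ∃ m n : ℤ, ∀ g : Cx x, ¬ p ∣ orderOf g →
      (ψ : Cx x → ℂ) g = m + n * (η : Cx x → ℂ) g := by
    intro ψ hψ
    obtain ⟨m, n, hmn⟩ := hspan_quot hM (Ux x) (Ux_le x) hUp h.span ψ hψ
    exact ⟨m, n, fun g hg => by rw [hmn g hg, hηv]⟩
  have hηreal : ∀ g, conj ((η : Cx x → ℂ) g) = (η : Cx x → ℂ) g := fun g => by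
    rw [hηv]; exact h.real _
  have hηne : ∃ g : Cx x, ¬ p ∣ orderOf g ∧ (η : Cx x → ℂ) g ≠ (η : Cx x → ℂ) 1 := by
    obtain ⟨g', hg', hne⟩ := h.ne
    obtain ⟨g, hg, rfl⟩ := Blocks.PRegular.exists_isPRegular_lift (Cx x) p (Ux x) hg'
    refine ⟨g, hg, ?_⟩
    rw [hηv, hηv]
    exact hne
  obtain ⟨g₀, hg₀, hne⟩ := hηne
  have h1reg : ¬ p ∣ orderOf (1 : Cx x) := by
    rw [orderOf_one]; exact hp.out.one_lt.ne' ∘ Nat.dvd_one.1
  have hint := fun ζ : IrrCharacter G => fun hζ : ζ ∈ principalBlock M G =>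
    int_coeff hM hC hx hx1 hηB hspan ⟨g₀, hg₀, hne⟩ hζ
  choose! a b hab using hint
  set B := Finset.univ.filter (fun ζ : IrrCharacter G => ζ ∈ principalBlock M G) with hBd
  have hmemB : ∀ ζ, ζ ∈ B ↔ ζ ∈ principalBlock M G := fun ζ => by simp [hBd]
  have hsumB : ∀ f : IrrCharacter G → ℂ, ∑ᶠ ζ ∈ principalBlock M G, f ζ = ∑ ζ ∈ B, f ζ := fun f =>
    Blocks.Orthogonality.finsum_mem_eq_sum_filter _ _
  set f : ℂ := (η : Cx x → ℂ) 1 with hf
  set e : ℂ := (η : Cx x → ℂ) g₀ with he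
  -- the kernel
  have hker : ∀ g g' : Cx x, ¬ p ∣ orderOf g → ¬ p ∣ orderOf g' →
      (∑ ζ ∈ B, (a ζ : ℂ) ^ 2) + (∑ ζ ∈ B, (a ζ : ℂ) * b ζ) * ((η : Cx x → ℂ) g + (η : Cx x → ℂ) g') +
        (∑ ζ ∈ B, (b ζ : ℂ) ^ 2) * ((η : Cx x → ℂ) g * (η : Cx x → ℂ) g') =
      p * ((1 + t) * (1 + (η : Cx x → ℂ) g * (η : Cx x → ℂ) g') +
        α * t * ((η : Cx x → ℂ) g + (η : Cx x → ℂ) g')) := by
    intro g g' hg hg'
    have h1 := H62.SecKernel.kernel hM hx g g' hg hg'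
    rw [hsumB, H62.SecKernel.kernel_quot hM (Ux x) (Ux_le x) hUp g g' hg hg', card_Ux, hxo,
      h.kernel _ _ (not_dvd_orderOf_mk hg) (not_dvd_orderOf_mk hg')] at h1
    rw [hηv g, hηv g', ← h1]
    rw [Finset.sum_mul, Finset.sum_mul, ← Finset.sum_add_distrib, ← Finset.sum_add_distrib]
    refine Finset.sum_congr rfl fun ζ hζ => ?_
    rw [hab ζ ((hmemB ζ).1 hζ) g hg, hab ζ ((hmemB ζ).1 hζ) g' hg', map_add, map_mul,
      map_intCast, map_intCast, hηreal g', hηv g, hηv g']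
    ring
  have hfe := hker 1 1 h1reg h1reg
  have hfe' := hker 1 g₀ h1reg hg₀
  have hfe'' := hker g₀ g₀ hg₀ hg₀
  rw [← hf] at hfe hfe'
  rw [← he] at hfe' hfe''
  have hYZ1 : ((∑ ζ ∈ B, (a ζ : ℂ) * b ζ) - α * p * t) + ((∑ ζ ∈ B, (b ζ : ℂ) ^ 2) - p * (1 + t)) * f =
      0 := by
    have h3 : (((∑ ζ ∈ B, (a ζ : ℂ) * b ζ) - α * p * t) +
        ((∑ ζ ∈ B, (b ζ : ℂ) ^ 2) - p * (1 + t)) * f) * (f - e) = 0 := by
      linear_combination hfe - hfe'
    exact (mul_eq_zero.1 h3).resolve_right (sub_ne_zero.2 (Ne.symm hne))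
  have hYZ2 : ((∑ ζ ∈ B, (a ζ : ℂ) * b ζ) - α * p * t) + ((∑ ζ ∈ B, (b ζ : ℂ) ^ 2) - p * (1 + t)) * e =
      0 := by
    have h3 : (((∑ ζ ∈ B, (a ζ : ℂ) * b ζ) - α * p * t) +
        ((∑ ζ ∈ B, (b ζ : ℂ) ^ 2) - p * (1 + t)) * e) * (f - e) = 0 := by
      linear_combination hfe' - hfe''
    exact (mul_eq_zero.1 h3).resolve_right (sub_ne_zero.2 (Ne.symm hne))
  obtain ⟨hY, hZ⟩ := lin_indep (Ne.symm hne) hYZ1 hYZ2
  have hX : (∑ ζ ∈ B, (a ζ : ℂ) ^ 2) = p * (1 + t) := by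
    have h4 : (∑ ζ ∈ B, (a ζ : ℂ) * b ζ) = α * p * t := sub_eq_zero.1 hY
    have h5 : (∑ ζ ∈ B, (b ζ : ℂ) ^ 2) = p * (1 + t) := sub_eq_zero.1 hZ
    rw [h4, h5] at hfe
    linear_combination hfe
  have haa : ∑ ζ ∈ B, a ζ ^ 2 = (p : ℤ) * (1 + t) := by exact_mod_cast hX
  have hab' : ∑ ζ ∈ B, a ζ * b ζ = α * p * t := by
    have := sub_eq_zero.1 hY
    exact_mod_cast this
  have hbb : ∑ ζ ∈ B, b ζ ^ 2 = (p : ℤ) * (1 + t) := by
    have := sub_eq_zero.1 hZ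
    exact_mod_cast this
  -- the trivial character
  have htriv : (⟨fun _ => 1, Blocks.Basic.isIrrCharacter_one⟩ : IrrCharacter G) ∈
      principalBlock M G := Blocks.PrincipalSection.one_mem_principalBlock
  set o : IrrCharacter G := ⟨fun _ => 1, Blocks.Basic.isIrrCharacter_one⟩ with ho
  have hoab : a o = 1 ∧ b o = 0 := by
    have h1 := hab o htriv 1 h1reg
    have h2 := hab o htriv g₀ hg₀
    have h3 : (o : G → ℂ) (x * (1 : Cx x)) = 1 := rfl
    have h4 : (o : G → ℂ) (x * g₀) = 1 := rfl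
    rw [h3, ← hf] at h1
    rw [h4, ← he] at h2
    have h5 := lin_indep (A := (a o : ℂ) - 1) (B := (b o : ℂ)) hne
      (by linear_combination -h2) (by linear_combination -h1)
    exact ⟨by exact_mod_cast sub_eq_zero.1 h5.1, by exact_mod_cast h5.2⟩
  -- degrees
  have hdeg : ∑ ζ ∈ B, (charDegree (ζ : G → ℂ) : ℤ) * a ζ = 0 ∧
      ∑ ζ ∈ B, (charDegree (ζ : G → ℂ) : ℤ) * b ζ = 0 := by
    have h0 : ∀ g : Cx x, ¬ p ∣ orderOf g → (∑ ζ ∈ B, (charDegree (ζ : G → ℂ) : ℂ) * a ζ) +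
        (∑ ζ ∈ B, (charDegree (ζ : G → ℂ) : ℂ) * b ζ) * (η : Cx x → ℂ) g = 0 := by
      intro g hg
      have h1 := Blocks.Orthogonality.weak_block_orthogonality hM (principalBlock M G)
        (fun g => Blocks.Osima.memLocalRing_blockCoeff hM
          Blocks.PrincipalSection.isPBlock_principalBlock g) (x := (1 : G)) (y := x * g)
        (by rw [orderOf_one]; exact hp.out.one_lt.ne' ∘ Nat.dvd_one.1) (by
          have hco : Commute x (g : G) := (Subgroup.mem_centralizer_singleton_iff.1 g.2).symm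
          have hcop : Nat.Coprime (orderOf x) (orderOf (g : G)) := by
            rw [hxo, orderOf_coe']
            exact (Nat.Prime.coprime_iff_not_dvd hp.out).2 hg
          rw [hco.orderOf_mul_eq_mul_orderOf_of_coprime hcop, hxo]
          exact dvd_mul_right _ _)
      rw [hsumB] at h1
      have h2 := congrArg conj h1
      rw [map_zero, map_sum] at h2
      rw [← h2, Finset.sum_mul, ← Finset.sum_add_distrib]
      refine Finset.sum_congr rfl fun ζ hζ => ?_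
      rw [map_mul, Complex.conj_conj, hab ζ ((hmemB ζ).1 hζ) g hg,
        Blocks.Basic.irr_one_eq_charDegree ζ.2, Complex.conj_natCast]
      ring
    have h1 := h0 1 h1reg
    have h2 := h0 g₀ hg₀
    obtain ⟨h3, h4⟩ := lin_indep hne h2 h1
    exact ⟨by exact_mod_cast h3, by exact_mod_cast h4⟩
  -- all characters are real
  have hreal := real_block hM hC hk hl hx hx1 hηreal ⟨g₀, hg₀, hne⟩ a b hab (by
    by_contra hcon
    push Not at hcon
    rw [Finset.sum_eq_zero (fun ζ hζ => by rw [hcon ζ ((hmemB ζ).1 hζ)]; rfl)] at hbb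
    have h1 : (0 : ℤ) < p * (1 + t) := by
      have := hp.out.pos
      positivity
    omega)
  choose! ν hν hνfs using fun ζ => fun hζ : ζ ∈ principalBlock M G =>
    fs_real ζ (hreal ζ hζ)
  have hfs : ∀ g : Cx x, ¬ p ∣ orderOf g → (∑ ζ ∈ B, (ν ζ : ℂ) * a ζ) +
      (∑ ζ ∈ B, (ν ζ : ℂ) * b ζ) * (η : Cx x → ℂ) g =
      (1 + t * ν₀ * α) + ν₀ * (1 + t) * (η : Cx x → ℂ) g := by
    intro g hg
    have h1 := fs_section hM hx g hg
    have h2 := fs_quot hM hp2 (Ux x) (Ux_le x) hUp (xc x) g (Subgroup.mem_zpowers _) hg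
    have h3 := h.fsum _ (not_dvd_orderOf_mk (U := Ux x) hg)
    rw [hηv g, ← h3, ← h2]
    rw [hsumB] at h1
    refine Eq.trans ?_ h1
    rw [Finset.sum_mul, ← Finset.sum_add_distrib]
    refine Finset.sum_congr rfl fun ζ hζ => ?_
    rw [hab ζ ((hmemB ζ).1 hζ) g hg, hνfs ζ ((hmemB ζ).1 hζ), hηv g]
    ring
  have hfs1 := hfs 1 h1reg
  have hfs2 := hfs g₀ hg₀
  rw [← hf] at hfs1
  rw [← he] at hfs2
  obtain ⟨hν1, hν2⟩ := lin_indep (A := (∑ ζ ∈ B, (ν ζ : ℂ) * a ζ) - (1 + t * ν₀ * α))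
    (B := (∑ ζ ∈ B, (ν ζ : ℂ) * b ζ) - ν₀ * (1 + t)) hne
    (by linear_combination hfs2) (by linear_combination hfs1)
  have hνa : ∑ ζ ∈ B, ν ζ * a ζ = 1 + t * ν₀ * α := by
    have := sub_eq_zero.1 hν1
    exact_mod_cast this
  have hνb : ∑ ζ ∈ B, ν ζ * b ζ = ν₀ * (1 + t) := by
    have := sub_eq_zero.1 hν2
    exact_mod_cast this
  have hνo : ν o = 1 := by
    have h1 := hνfs o htriv
    have h2 : fs (o : G → ℂ) = 1 := by
      rw [fs_eq_sum]
      have h3 : ∀ s : G, (o : G → ℂ) (s * s) = 1 := fun s => rfl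
      simp only [h3, Finset.sum_const, Finset.card_univ, nsmul_eq_mul, mul_one,
        Nat.card_eq_fintype_card]
      exact inv_mul_cancel₀ (by exact_mod_cast Fintype.card_ne_zero)
    rw [h2] at h1
    exact_mod_cast h1.symm
  have hDo : (charDegree (o : G → ℂ) : ℤ) = 1 := by
    rw [Blocks.Basic.charDegree_of_eq (χ := (o : G → ℂ)) (n := 1) (by rw [Nat.cast_one])]
    rfl
  have hBcard : B.card = 4 := by
    rw [← hk, Nat.card_eq_fintype_card, Fintype.card_subtype]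
  exact numeric B hBcard ((hmemB o).2 htriv) a b ν (fun ζ => (charDegree (ζ : G → ℂ) : ℤ)) p t α ν₀
    h.sgn_α h.sgn_ν (fun ζ hζ => hν ζ ((hmemB ζ).1 hζ)) hoab.1 hoab.2 hνo hDo haa hbb hab' hνa hνb
    hdeg.1 hdeg.2 hp.out hc

end core

end Cfsg.Agent.H634.CaseB
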