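import Cfsg.Agent.H634.ElLoc
import Cfsg.Agent.KFacts.Ru.ConjWord
import Cfsg.Agent.RuLat.Main
import Cfsg.Agent.KFacts.ON.Cent
import Cfsg.Agent.KFacts.ON.OneClass
import Cfsg.Agent.R04.ONThree

/-!
# Elimination: the Rudvalis group and the O'Nan group
-/

set_option autoImplicit false
set_option maxRecDepth 100000
set_option exponentiation.threshold 5000

open Cfsg Subgroup

namespace Cfsg.Agent.H634.El

section Ru

open Cfsg.Agent.H634.HypS Cfsg.Agent.SporadicB Cfsg.Agent.RuD.Letters Cfsg.Agent.SporRec.TCUpperCert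
  Cfsg.Agent.SporRec.R3.Kernel Cfsg.Agent.KFacts.Ru.ConjWord

/-- an element of order three of the Rudvalis group -/
def xw : List ℕ := [0, 4, 3]
/-- an element of order three of the Rudvalis group -/
def yw : List ℕ := [5, 3, 8, 5, 1, 7, 5, 7, 5]
/-- the commutator -/
def zw : List ℕ := xw ++ yw ++ iw xw ++ iw yw

theorem chk_xyz : chkRel [xw ++ xw ++ xw, yw ++ yw ++ yw, zw ++ xw ++ iw (xw ++ zw), zw ++ yw ++ iw (yw ++ zw)] = true := by
  decide +kernel

theorem chk_ne : neK zw [] 0 = true := by decide +kernel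

theorem ru_three [Fact (Nat.Prime 3)] {n : ℕ} (h : Hyp 3 n RuOrder.H) : False := by
  have h1 := rel_of_chk chk_xyz
  have hx := h1 (xw ++ xw ++ xw) (by simp)
  have hy := h1 (yw ++ yw ++ yw) (by simp)
  have hzx := eq_of (h1 (eqr (zw ++ xw) (xw ++ zw)) (by simp [eqr]))
  have hzy := eq_of (h1 (eqr (zw ++ yw) (yw ++ zw)) (by simp [eqr]))
  have hz := ne_of (p := zw) (q := []) (⟨0, by norm_num⟩ : Fin 4060) chk_ne
  rw [wprod_append, wprod_append] at hx hy hzx hzy
  rw [wprod_nil] at hz
  refine heis_false h (x := wprod ml xw) (y := wprod ml yw) (z := wprod ml zw) ?_ ?_ hzx hzy ?_ hz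
  · rw [pow_succ, pow_two]
    exact hx
  · rw [pow_succ, pow_two]
    exact hy
  · have e : zw = xw ++ yw ++ iw xw ++ iw yw := rfl
    rw [e, wprod_append, wprod_append, wprod_append, wprod_iw, wprod_iw]
    group

end Ru

section ON

open Cfsg.Agent.H634.HypS Cfsg.Spor Cfsg.Agent.KFacts.ON Cfsg.Agent.SporadicB.ON45Word

theorem card_cent_of_conj {G : Type*} [Group G] {a b : G} (h : IsConj a b) :
    Nat.card (centralizer ({a} : Set G)) = Nat.card (centralizer ({b} : Set G)) := by
  obtain ⟨r, rfl⟩ := isConj_iff.1 h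
  refine Nat.card_congr (((MulAut.conj r).toEquiv).subtypeEquiv fun x => ?_)
  show x ∈ centralizer ({a} : Set G) ↔ r * x * r⁻¹ ∈ centralizer ({r * a * r⁻¹} : Set G)
  rw [mem_centralizer_singleton_iff, mem_centralizer_singleton_iff]
  constructor
  · intro hx
    calc r * x * r⁻¹ * (r * a * r⁻¹) = r * (x * a) * r⁻¹ := by group
      _ = r * (a * x) * r⁻¹ := by rw [hx]
      _ = r * a * r⁻¹ * (r * x * r⁻¹) := by group
  · intro hx
    have e : r * (x * a) * r⁻¹ = r * (a * x) * r⁻¹ := by
      calc r * (x * a) * r⁻¹ = r * x * r⁻¹ * (r * a * r⁻¹) := by group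
        _ = r * a * r⁻¹ * (r * x * r⁻¹) := hx
        _ = r * (a * x) * r⁻¹ := by group
    exact mul_left_cancel (mul_right_cancel e)

theorem on_seven [Fact (Nat.Prime 7)] {n : ℕ} (h : Hyp 7 n Spor.ON) (hn : 3 ≤ n) : False := by
  have hc : Nat.card Spor.ON = 460815505920 := Cent.hON.2
  have hfin : Finite Spor.ON := Nat.finite_of_card_ne_zero (by rw [hc]; norm_num)
  have hf : orderOf (on .f) = 2 := by
    have : Fact (Nat.Prime 2) := ⟨Nat.prime_two⟩
    refine orderOf_eq_prime ?_ R04.ONThree.f_ne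
    rw [pow_two]
    exact ONType.TupleClass.ff Cent.hON.1
  refine two_local_false h (by norm_num) hn hf (by rw [Cent.card_cent]; norm_num) fun t ht => ?_
  have h1 : IsConj t (on .f) := by
    refine OneClass.one_class ?_ ?_
    · rw [← pow_two, ← ht, pow_orderOf_eq_one]
    · rintro rfl
      rw [orderOf_one] at ht
      norm_num at ht
  rw [card_cent_of_conj h1, Cent.card_cent]
  norm_num

end ON

end Cfsg.Agent.H634.El
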