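import Cfsg.Agent.H793.PC.Five

/-!
# S4579, reduction: a simple component on which a linear character of the Sylow subgroup is not real
-/

set_option autoImplicit false

open Cfsg Subgroup

namespace Cfsg.Agent.H634.Sd

open Cfsg.Agent.Lib.MinNormalNonabelian Cfsg.Agent.H793.PC

universe u

variable {G : Type u} [Group G] [Finite G]

theorem relIndex_dvd_index (P N : Subgroup G) [N.Normal] : P.relIndex N ∣ P.index := by
  have h1 : P.relIndex (P ⊔ N) * (P ⊔ N).index = P.index := relIndex_mul_index le_sup_left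
  have h2 : Nat.card P * P.relIndex (P ⊔ N) = Nat.card (P ⊔ N : Subgroup G) := by
    have := (P.subgroupOf (P ⊔ N)).card_mul_index
    rwa [Nat.card_congr (subgroupOfEquivOfLe (le_sup_left : P ≤ P ⊔ N)).toEquiv] at this
  have h3 : Nat.card N * N.relIndex (P ⊔ N) = Nat.card (P ⊔ N : Subgroup G) := by
    have := (N.subgroupOf (P ⊔ N)).card_mul_index
    rwa [Nat.card_congr (subgroupOfEquivOfLe (le_sup_right : N ≤ P ⊔ N)).toEquiv] at this
  have h4 : Nat.card (N ⊓ P : Subgroup G) * N.relIndex P = Nat.card P := by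
    have := ((N ⊓ P).subgroupOf P).card_mul_index
    rw [Nat.card_congr (subgroupOfEquivOfLe (inf_le_right : N ⊓ P ≤ P)).toEquiv] at this
    rw [← inf_relIndex_right]
    exact this
  have h5 : Nat.card (N ⊓ P : Subgroup G) * P.relIndex N = Nat.card N := by
    have := ((N ⊓ P).subgroupOf N).card_mul_index
    rw [Nat.card_congr (subgroupOfEquivOfLe (inf_le_left : N ⊓ P ≤ N)).toEquiv] at this
    rw [← inf_relIndex_left]
    exact this
  have h6 : N.relIndex (P ⊔ N) = N.relIndex P := relIndex_sup_right P N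
  have h7 : P.relIndex N = P.relIndex (P ⊔ N) := by
    rw [h6] at h3
    have hc : 0 < Nat.card (N ⊓ P : Subgroup G) := Nat.card_pos
    have ha : 0 < N.relIndex P := by
      rcases Nat.eq_zero_or_pos (N.relIndex P) with h | h
      · rw [h, mul_zero] at h4
        exact absurd h4.symm Nat.card_pos.ne'
      · exact h
    have h8 : Nat.card (N ⊓ P : Subgroup G) * N.relIndex P * P.relIndex (P ⊔ N) =
        Nat.card (N ⊓ P : Subgroup G) * N.relIndex P * P.relIndex N := by
      calc _ = Nat.card P * P.relIndex (P ⊔ N) := by rw [h4]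
        _ = Nat.card N * N.relIndex P := by rw [h2, h3]
        _ = Nat.card (N ⊓ P : Subgroup G) * P.relIndex N * N.relIndex P := by rw [h5]
        _ = _ := by ring
    exact (Nat.eq_of_mul_eq_mul_left (Nat.mul_pos hc ha) h8).symm
  rw [h7, ← h1]
  exact dvd_mul_right _ _

/-- The coordinates of an element of `P ∩ N` lie in `P`. -/
theorem co_mem {p : ℕ} [hp : Fact p.Prime] {N : Subgroup G} [hN : N.Normal] (h : Dec N) [Fintype (minSet N)]
    (P : Sylow p G) (q : N) (hq : (q : G) ∈ (P : Subgroup G)) (T : minSet N) :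
    (h.co T q : G) ∈ (P : Subgroup G) := by
  classical
  let P' : Subgroup N := (P : Subgroup G).subgroupOf N
  let R : Subgroup N := ⨅ T : minSet N, (P'.map (h.co T)).comap (h.co T)
  have hR : ∀ n : N, n ∈ R ↔ ∀ T : minSet N, h.co T n ∈ P'.map (h.co T) := by
    intro n
    simp only [R, mem_iInf, mem_comap]
  have hPR : P' ≤ R := by
    intro n hn
    rw [hR]
    exact fun T => ⟨n, hn, rfl⟩
  have hinj : ∀ a b : N, (∀ T, h.co T a = h.co T b) → a = b := by
    intro a b hab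
    apply h.E.symm.injective
    funext T
    exact hab T
  have hP' : IsPGroup p P' := P.2.comap_of_injective _ Subtype.val_injective
  have hRp : IsPGroup p R := by
    rintro ⟨n, hn⟩
    rw [hR] at hn
    have h1 : ∀ T : minSet N, ∃ k : ℕ, (h.co T n) ^ p ^ k = 1 := by
      intro T
      obtain ⟨m, hm, hmn⟩ := hn T
      obtain ⟨k, hk⟩ := hP' ⟨m, hm⟩
      refine ⟨k, ?_⟩
      rw [← hmn, ← map_pow]
      have : m ^ p ^ k = 1 := congrArg Subtype.val hk
      rw [this, map_one]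
    choose k hk using h1
    refine ⟨∑ T, k T, Subtype.ext ?_⟩
    show n ^ p ^ (∑ T, k T) = 1
    apply hinj
    intro T
    rw [map_pow, map_one]
    obtain ⟨c, hc⟩ : ∃ c, ∑ T, k T = k T + c := by
      refine ⟨∑ T, k T - k T, ?_⟩
      have := Finset.single_le_sum (f := k) (fun i _ => Nat.zero_le _) (Finset.mem_univ T)
      omega
    rw [hc, pow_add, pow_mul, hk T, one_pow]
  have hidx : ¬ p ∣ P'.index := by
    intro hd
    exact P.not_dvd_index (hd.trans (relIndex_dvd_index (P : Subgroup G) N))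
  have hRP : R ≤ P' := by
    rw [← relIndex_eq_one]
    have h1 : P'.relIndex R * R.index = P'.index := relIndex_mul_index hPR
    have h2 : P'.relIndex R ∣ Nat.card R := relIndex_dvd_card _ _
    obtain ⟨k, hk⟩ := hRp.exists_card_eq
    rw [hk] at h2
    obtain ⟨j, -, hj⟩ := (Nat.dvd_prime_pow hp.out).1 h2
    rcases Nat.eq_zero_or_pos j with rfl | hj0
    · rw [hj, pow_zero]
    · exfalso
      apply hidx
      rw [← h1, hj]
      exact Dvd.dvd.mul_right (dvd_pow_self p hj0.ne') _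
  -- the element with one coordinate
  let n : N := h.E (Pi.mulSingle T (h.co T q))
  have hn : n ∈ R := by
    rw [hR]
    intro T'
    rw [h.co_E]
    by_cases hT : T' = T
    · subst hT
      rw [Pi.mulSingle_eq_same]
      exact ⟨q, hq, rfl⟩
    · rw [Pi.mulSingle_eq_of_ne hT]
      exact one_mem _
  have h1 : (n : G) = h.co T q := by
    show h.phi (Pi.mulSingle T (h.co T q)) = _
    exact Subgroup.noncommPiCoprod_mulSingle _ _
  rw [← h1]
  exact hRP hn

/-- **R6.** -/
theorem exists_comp [Fact (Nat.Prime 2)] (N : Subgroup G) [hN : N.Normal]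
    (hmin : ∀ K : Subgroup G, K.Normal → K ≤ N → K = ⊥ ∨ K = N)
    (hna : ¬ ∀ a ∈ N, ∀ b ∈ N, a * b = b * a) (P : Sylow 2 G) (f : (P : Subgroup G) →* ℂˣ)
    (hx : ∃ x : (P : Subgroup G), (x : G) ∈ N ∧ f x ^ 2 ≠ 1) :
    ∃ T : minSet N, IsSimpleGroup (T : Subgroup G) ∧ ¬ IsMulCommutative (T : Subgroup G) ∧
      (∃ Q : Sylow 2 (T : Subgroup G), ∀ s : (T : Subgroup G), s ∈ Q ↔ (s : G) ∈ (P : Subgroup G)) ∧
      ∃ x : (P : Subgroup G), (x : G) ∈ (T : Subgroup G) ∧ f x ^ 2 ≠ 1 := by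
  classical
  have hna' : ¬ ∀ x ∈ N, ∀ y ∈ N, Commute x y := hna
  obtain ⟨-, -, -, hsim, hctr, -⟩ := nonabelian_structure N hmin hna'
  have h : Dec N := dec_of hmin hna'
  have := Fintype.ofFinite (minSet N)
  obtain ⟨⟨q, hqP⟩, hqN, hfq⟩ := hx
  -- some coordinate
  obtain ⟨T, hT⟩ : ∃ T : minSet N, f ⟨(h.co T ⟨q, hqN⟩ : G), co_mem h P ⟨q, hqN⟩ hqP T⟩ ^ 2 ≠ 1 := by
    by_contra hcon
    push Not at hcon
    let K : Subgroup N :=
      { carrier := {n | ∃ hn : (n : G) ∈ (P : Subgroup G), f ⟨n, hn⟩ ^ 2 = 1}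
        one_mem' := ⟨one_mem _, by
          have : (⟨((1 : N) : G), one_mem _⟩ : (P : Subgroup G)) = 1 := rfl
          rw [this, map_one, one_pow]⟩
        mul_mem' := by
          rintro a b ⟨ha, ha'⟩ ⟨hb, hb'⟩
          refine ⟨mul_mem ha hb, ?_⟩
          have : (⟨((a * b : N) : G), mul_mem ha hb⟩ : (P : Subgroup G)) = ⟨a, ha⟩ * ⟨b, hb⟩ := rfl
          rw [this, map_mul, mul_pow, ha', hb', one_mul]
        inv_mem' := by
          rintro a ⟨ha, ha'⟩
          refine ⟨inv_mem ha, ?_⟩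
          have : (⟨((a⁻¹ : N) : G), inv_mem ha⟩ : (P : Subgroup G)) = (⟨a, ha⟩ : (P : Subgroup G))⁻¹ := rfl
          rw [this, map_inv, inv_pow, ha', inv_one] }
    have hK : ∀ T : minSet N, Pi.mulSingle T (h.co T ⟨q, hqN⟩) ∈ K.comap h.E.toMonoidHom := by
      intro T
      rw [mem_comap]
      have h1 : ((h.E (Pi.mulSingle T (h.co T ⟨q, hqN⟩)) : N) : G) = h.co T ⟨q, hqN⟩ := by
        show h.phi (Pi.mulSingle T (h.co T ⟨q, hqN⟩)) = _
        exact Subgroup.noncommPiCoprod_mulSingle _ _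
      have h2 : ((h.E (Pi.mulSingle T (h.co T ⟨q, hqN⟩)) : N) : G) ∈ (P : Subgroup G) := by
        rw [h1]
        exact co_mem h P ⟨q, hqN⟩ hqP T
      refine ⟨h2, ?_⟩
      have h3 : (⟨((h.E (Pi.mulSingle T (h.co T ⟨q, hqN⟩)) : N) : G), h2⟩ : (P : Subgroup G)) =
          ⟨(h.co T ⟨q, hqN⟩ : G), co_mem h P ⟨q, hqN⟩ hqP T⟩ := Subtype.ext h1
      show f ⟨((h.E (Pi.mulSingle T (h.co T ⟨q, hqN⟩)) : N) : G), h2⟩ ^ 2 = 1
      rw [h3]
      exact hcon T
    have hall : h.E.symm ⟨q, hqN⟩ ∈ K.comap h.E.toMonoidHom := by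
      rw [← Finset.noncommProd_mulSingle (h.E.symm ⟨q, hqN⟩)]
      exact Subgroup.noncommProd_mem _ _ fun T _ => hK T
    rw [mem_comap] at hall
    have h4 : h.E.toMonoidHom (h.E.symm ⟨q, hqN⟩) = ⟨q, hqN⟩ := h.E.apply_symm_apply _
    rw [h4] at hall
    obtain ⟨h6, h5⟩ := hall
    exact hfq h5
  have hTN : (T : Subgroup G) ≤ N := T.2.1
  have hNT : N ≤ normalizer ((T : Subgroup G) : Set G) := T.2.2.2.1
  have hTs := hsim T T.2
  refine ⟨T, hTs, ?_, ?_, ⟨_, co_mem h P ⟨q, hqN⟩ hqP T⟩, (h.co T ⟨q, hqN⟩).2, hT⟩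
  · intro hc
    have h1 : ∀ a b : (T : Subgroup G), a * b = b * a := hc.1.comm
    have hnt := hTs.toNontrivial
    obtain ⟨a, ha⟩ := exists_ne (1 : (T : Subgroup G))
    apply ha
    exact Subtype.ext (hctr T T.2 a a.2 fun t ht => congrArg Subtype.val (h1 a ⟨t, ht⟩))
  · have hp2 : IsPGroup 2 ((P : Subgroup G).subgroupOf (T : Subgroup G)) :=
      P.2.comap_of_injective _ Subtype.val_injective
    have hidx : ¬ 2 ∣ ((P : Subgroup G).subgroupOf (T : Subgroup G)).index := by
      intro hd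
      have hn : ((T : Subgroup G).subgroupOf N).Normal := normal_subgroupOf_iff_le_normalizer hTN |>.2 hNT
      have h1 := relIndex_dvd_index ((P : Subgroup G).subgroupOf N) ((T : Subgroup G).subgroupOf N)
      rw [relIndex_subgroupOf hTN] at h1
      exact P.not_dvd_index ((hd.trans h1).trans (relIndex_dvd_index (P : Subgroup G) N))
    exact ⟨hp2.toSylow hidx, fun s => Iff.rfl⟩

end Cfsg.Agent.H634.Sd
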