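import Cfsg.Agent.H634.SdSimple
import Cfsg.Agent.H388.Sd.FactorQuot
import Cfsg.Agent.H699.SdQuot
import Cfsg.Agent.H982.SdTwo

/-!
# S4579, reduction to simple groups: the induction
-/

set_option autoImplicit false

open Cfsg

namespace Cfsg.Agent.H634.Sd

open Cfsg.Agent.H643.Sd
open scoped Pointwise commutatorElement

universe u

/-- An abelian minimal normal subgroup has prime exponent. -/
theorem exists_exponent {G : Type u} [Group G] [Finite G] (N : Subgroup G) [hN : N.Normal] (hN1 : N ≠ ⊥)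
    (hmin : ∀ K : Subgroup G, K.Normal → K ≤ N → K = ⊥ ∨ K = N)
    (hab : ∀ a ∈ N, ∀ b ∈ N, a * b = b * a) : ∃ q : ℕ, q.Prime ∧ ∀ a ∈ N, a ^ q = 1 := by
  have h1 : Nat.card N ≠ 1 := by
    intro h
    exact hN1 (Subgroup.card_eq_one.1 h)
  obtain ⟨q, hq, hqd⟩ := Nat.exists_prime_and_dvd h1
  have := Fact.mk hq
  refine ⟨q, hq, ?_⟩
  let K : Subgroup G :=
    { carrier := {a | a ∈ N ∧ a ^ q = 1}
      one_mem' := ⟨N.one_mem, one_pow _⟩
      mul_mem' := by
        rintro a b ⟨ha, ha'⟩ ⟨hb, hb'⟩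
        refine ⟨N.mul_mem ha hb, ?_⟩
        have hc : Commute a b := hab a ha b hb
        rw [hc.mul_pow, ha', hb', one_mul]
      inv_mem' := by
        rintro a ⟨ha, ha'⟩
        refine ⟨N.inv_mem ha, ?_⟩
        rw [inv_pow, ha', inv_one] }
  have hKn : K.Normal := by
    constructor
    rintro a ⟨ha, ha'⟩ g
    refine ⟨hN.conj_mem a ha g, ?_⟩
    rw [conj_pow, ha', mul_one, mul_inv_cancel]
  rcases hmin K hKn (fun a ha => ha.1) with h | h
  · exfalso
    obtain ⟨a, ha⟩ := exists_prime_orderOf_dvd_card' q hqd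
    have h2 : (a : G) ∈ K := by
      refine ⟨a.2, ?_⟩
      have h3 := pow_orderOf_eq_one a
      rw [ha] at h3
      have := congrArg Subtype.val h3
      simpa using this
    rw [h, Subgroup.mem_bot] at h2
    have h3 : a = 1 := Subtype.ext h2
    rw [h3, orderOf_one] at ha
    exact hq.one_lt.ne ha
  · intro a ha
    rw [← h] at ha
    exact ha.2

/-- A group whose Sylow `2`-subgroup has a linear character of order at least four has a nonreal character of odd
degree in the principal `2`-block (given the rows of the simple groups). -/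
theorem hasNR_of_nonElem [Fact (Nat.Prime 2)]
    (rows : ∀ (S : Type u) [Group S] [Finite S] [IsSimpleGroup S], (∃ a b : S, a * b ≠ b * a) → Row S)
    {M : Ideal AlgInt} (hM : IsPModular 2 M) : ∀ (n : ℕ) (G : Type u) [Group G] [Finite G], Nat.card G = n →
      NonElem G → HasNR M G := by
  intro n
  induction n using Nat.strong_induction_on with
  | _ n ih =>
  intro G _ _ hn hNE
  by_contra hcon
  have hnt : Nontrivial G := by
    obtain ⟨P, f, x, hx⟩ := hNE
    by_contra h
    rw [not_nontrivial_iff_subsingleton] at h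
    apply hx
    have : x = 1 := Subsingleton.elim _ _
    rw [this, map_one, one_pow]
  obtain ⟨N, hN, hN1, hmin⟩ : ∃ N : Subgroup G, N.Normal ∧ N ≠ ⊥ ∧
      ∀ K : Subgroup G, K.Normal → K ≤ N → K = ⊥ ∨ K = N := by
    have hne : ({K : Subgroup G | K.Normal ∧ K ≠ ⊥}).Nonempty := ⟨⊤, inferInstance, top_ne_bot⟩
    obtain ⟨N, hN⟩ := (Set.toFinite {K : Subgroup G | K.Normal ∧ K ≠ ⊥}).exists_minimal hne
    refine ⟨N, hN.1.1, hN.1.2, fun K hK hle => ?_⟩
    by_cases h : K = ⊥
    · exact Or.inl h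
    · exact Or.inr (le_antisymm hle (hN.2 ⟨hK, h⟩ hle))
  have hcardN : 1 < Nat.card N := by
    rw [Subgroup.one_lt_card_iff_ne_bot]
    exact hN1
  -- the quotient
  have hq : ¬ NonElem (G ⧸ N) := by
    intro h
    apply hcon
    refine H699.SdQuot.quot hM N (ih (Nat.card (G ⧸ N)) ?_ (G ⧸ N) rfl h)
    rw [← hn, ← N.card_mul_index]
    have h2 : 0 < N.index := Nat.pos_of_ne_zero N.index_ne_zero_of_finite
    show N.index < _
    nlinarith
  obtain ⟨P, f, hx⟩ := hNE
  have hfN : ∃ x : (P : Subgroup G), (x : G) ∈ N ∧ f x ≠ 1 := by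
    by_contra h
    push Not at h
    exact hq (H388.Sd.factor_quot N P f h hx)
  apply hcon
  by_cases hab : ∀ a ∈ N, ∀ b ∈ N, a * b = b * a
  · obtain ⟨q, hqp, hexp⟩ := exists_exponent N hN1 hmin hab
    obtain ⟨x, hxN, hfx⟩ := hfN
    have hx1 : (x : G) ≠ 1 := by
      intro h
      apply hfx
      have : x = 1 := Subtype.ext h
      rw [this, map_one]
    have hq2 : q = 2 := by
      have h1 : orderOf (x : G) ∣ q := orderOf_dvd_of_pow_eq_one (hexp _ hxN)
      have h2 : orderOf (x : G) = q := by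
        rcases (Nat.dvd_prime hqp).1 h1 with h | h
        · exact absurd (orderOf_eq_one_iff.1 h) hx1
        · exact h
      obtain ⟨k, hk⟩ := IsPGroup.iff_orderOf.1 P.2 x
      rw [← Subgroup.orderOf_coe, h2] at hk
      have h3 : q ∣ 2 ^ k := by rw [hk]
      exact (Nat.prime_dvd_prime_iff_eq hqp Nat.prime_two).1 (hqp.dvd_of_dvd_pow h3)
    subst hq2
    have hNp : IsPGroup 2 N := by
      intro a
      refine ⟨1, Subtype.ext ?_⟩
      have := hexp a a.2
      simpa using this
    have hNP : N ≤ (P : Subgroup G) := by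
      obtain ⟨R, hR⟩ := hNp.exists_le_sylow
      obtain ⟨g, hg⟩ := MulAction.exists_smul_eq G R P
      intro a ha
      have h1 : g⁻¹ * a * g ∈ (R : Subgroup G) := by
        have := hN.conj_mem a ha g⁻¹
        rw [inv_inv] at this
        exact hR this
      rw [← hg]
      change a ∈ (MulAut.conj g • (R : Subgroup G) : Subgroup G)
      rw [Subgroup.mem_pointwise_smul_iff_inv_smul_mem, ← map_inv]
      show g⁻¹ * a * g⁻¹⁻¹ ∈ _
      rw [inv_inv]
      exact h1
    refine H982.SdTwo.two_step hM N hab hexp P hNP f hx ⟨x, hxN, hfx⟩ ?_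
    intro T hNT hT
    refine ih (Nat.card (T ⧸ N.subgroupOf T)) ?_ _ rfl hT
    have h1 : Nat.card (N.subgroupOf T) = Nat.card N :=
      Nat.card_congr (Subgroup.subgroupOfEquivOfLe hNT).toEquiv
    have h2 := (N.subgroupOf T).card_mul_index
    have h3 : Nat.card T ≤ Nat.card G := Subgroup.card_le_card_group T
    have h4 : 0 < (N.subgroupOf T).index := Nat.pos_of_ne_zero (Subgroup.index_ne_zero_of_finite)
    rw [← hn]
    show (N.subgroupOf T).index < _
    rw [h1] at h2
    nlinarith
  · have hperf : ⁅N, N⁆ = N := by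
      have h1 : ⁅N, N⁆ ≤ N := Subgroup.commutator_le_right N N
      rcases hmin ⁅N, N⁆ inferInstance h1 with h | h
      · exfalso
        apply hab
        intro a ha b hb
        have h2 : ⁅a, b⁆ ∈ ⁅N, N⁆ := Subgroup.commutator_mem_commutator ha hb
        rw [h, Subgroup.mem_bot, commutatorElement_eq_one_iff_mul_comm] at h2
        exact h2
      · exact h
    exact simple_step rows hM N hmin hab hperf hq P f hx

/-- The characters of a finite commutative group separate points. -/
theorem exists_char {A : Type*} [CommGroup A] [Finite A] {a : A} (ha : a ≠ 1) : ∃ f : A →* ℂˣ, f a ≠ 1 :=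
  CommGroup.exists_apply_ne_one_of_hasEnoughRootsOfUnity A ℂ ha

/-- **The reduction of S4579 to the rows.** -/
theorem main_of_rows {G : Type u} [Group G] [Finite G] [Fact (Nat.Prime 2)]
    (rows : ∀ (S : Type u) [Group S] [Finite S] [IsSimpleGroup S], (∃ a b : S, a * b ≠ b * a) → Row S)
    (M : Ideal AlgInt) (hM : IsPModular 2 M) (P : Sylow 2 G)
    (hreal : ∀ χ ∈ principalBlock M G, Odd (charDegree (χ : G → ℂ)) → ∀ g : G, ((χ : G → ℂ) g).im = 0) :
    ∀ x : (P : Subgroup G), x ^ 2 ∈ commutator (P : Subgroup G) := by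
  intro x
  by_contra hx
  have h1 : (Abelianization.of x) ^ 2 ≠ 1 := by
    intro h
    apply hx
    rw [← map_pow] at h
    rw [← Abelianization.ker_of]
    exact h
  obtain ⟨f, hf⟩ := exists_char h1
  obtain ⟨χ, h2, h3, g, h4⟩ := hasNR_of_nonElem rows hM _ G rfl
    ⟨P, f.comp Abelianization.of, x, by
      rw [MonoidHom.comp_apply, ← map_pow]
      exact hf⟩
  exact h4 (hreal χ h2 h3 g)

end Cfsg.Agent.H634.Sd
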