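import Cfsg.Agent.H793.PC.Five
import Cfsg.Agent.H893.Sd.MemIff

/-!
# S4579, reduction: the product character over the `P`-orbit of a simple component
-/

set_option autoImplicit false

open Cfsg Subgroup

namespace Cfsg.Agent.H634.Sd

open Cfsg.Agent.Lib.MinNormalNonabelian Cfsg.Agent.H793.PC Cfsg.Agent.Blocks.Blau
open Cfsg.Agent.Characters.Core

universe u

section pi

variable {ι : Type*} [Fintype ι] {A : ι → Type*} [∀ i, Group (A i)] [∀ i, Finite (A i)] {p : ℕ}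

theorem dvd_orderOf_pi (hp : p.Prime) (c : ∀ i, A i) : p ∣ orderOf c ↔ ∃ i, p ∣ orderOf (c i) := by
  constructor
  · intro h
    by_contra hcon
    push Not at hcon
    have h1 : orderOf c ∣ ∏ i, orderOf (c i) := by
      apply orderOf_dvd_of_pow_eq_one
      funext i
      rw [Pi.pow_apply, Pi.one_apply, ← orderOf_dvd_iff_pow_eq_one]
      exact Finset.dvd_prod_of_mem _ (Finset.mem_univ i)
    obtain ⟨i, -, hi⟩ := (Prime.dvd_finsetProd_iff hp.prime _).1 (h.trans h1)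
    exact hcon i hi
  · rintro ⟨i, hi⟩
    exact hi.trans (orderOf_map_dvd (Pi.evalMonoidHom A i) c)

theorem regPart_pi (hp : p.Prime) (f : ∀ i, A i → ℂ) (c : ∀ i, A i) :
    regPart p (fun x : ∀ i, A i => ∏ i, f i (x i)) c = ∏ i, regPart p (f i) (c i) := by
  by_cases h : p ∣ orderOf c
  · rw [regPart_of_dvd h]
    obtain ⟨i, hi⟩ := (dvd_orderOf_pi hp c).1 h
    exact (Finset.prod_eq_zero (Finset.mem_univ i) (regPart_of_dvd (f := f i) hi)).symm
  · rw [regPart_of_not_dvd h]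
    refine Finset.prod_congr rfl fun i _ => ?_
    rw [regPart_of_not_dvd]
    exact fun hi => h ((dvd_orderOf_pi hp c).2 ⟨i, hi⟩)

theorem sum_regPart_pi [DecidableEq ι] [∀ i, Fintype (A i)] (hp : p.Prime) (f : ∀ i, A i → ℂ) :
    ∑ c : ∀ i, A i, regPart p (fun x : ∀ i, A i => ∏ i, f i (x i)) c =
      ∏ i, ∑ a : A i, regPart p (f i) a := by
  rw [Finset.prod_univ_sum, Fintype.piFinset_univ]
  exact Finset.sum_congr rfl fun c _ => regPart_pi hp f c

end pi

theorem sum_regPart_equiv {A B : Type*} [Group A] [Group B] [Fintype A] [Fintype B] (p : ℕ) (e : A ≃* B)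
    (f : B → ℂ) : ∑ a : A, regPart p (f ∘ e) a = ∑ b : B, regPart p f b := by
  rw [← Equiv.sum_comp e.toEquiv]
  refine Finset.sum_congr rfl fun a _ => ?_
  unfold regPart
  have : orderOf (e.toEquiv a) = orderOf a := e.orderOf_eq a
  rw [this]
  rfl

variable {G : Type u} [Group G] [Finite G] {M : Ideal AlgInt}

section prod

variable {N : Subgroup G} [hN : N.Normal] (P : Subgroup G) (T₀ : minSet N) (θ : ↥(T₀ : Subgroup G) → ℂ)

open Classical in
/-- Extension by zero. -/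
noncomputable def ext0 (x : G) : ℂ := if hx : x ∈ (T₀ : Subgroup G) then θ ⟨x, hx⟩ else 0

open Classical in
/-- The conjugates of `θ` on the `P`-orbit of `T₀`, the trivial character outside. -/
noncomputable def F0 (T : minSet N) (x : G) : ℂ :=
  if h : ∃ g ∈ P, cj g T₀ = T then ext0 T₀ θ (h.choose⁻¹ * x * h.choose) else 1

variable {P T₀ θ}

theorem cj_mul (g k : G) (T : minSet N) : cj (g * k) T = cj g (cj k T) := by
  apply Subtype.ext
  rw [coe_cj, coe_cj, coe_cj, Cfsg.Agent.Lib.MinNormal.map_conj_map_conj]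

theorem cj_one (T : minSet N) : cj (1 : G) T = T := by
  apply Subtype.ext
  rw [coe_cj]
  ext x; simp

theorem ext0_conj (hinv : ∀ g ∈ P, cj g T₀ = T₀ → ∀ s s' : (T₀ : Subgroup G), (s' : G) = g * s * g⁻¹ → θ s' = θ s)
    {a : G} (ha : a ∈ P) (haT : cj a T₀ = T₀) (y : G) : ext0 T₀ θ (a * y * a⁻¹) = ext0 T₀ θ y := by
  have h1 : a * y * a⁻¹ ∈ (T₀ : Subgroup G) ↔ y ∈ (T₀ : Subgroup G) := by
    have h2 : a * y * a⁻¹ ∈ ((cj a T₀ : minSet N) : Subgroup G) ↔ a⁻¹ * (a * y * a⁻¹) * a ∈ (T₀ : Subgroup G) :=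
      mem_cj a T₀
    rw [haT] at h2
    rw [h2]
    have : a⁻¹ * (a * y * a⁻¹) * a = y := by group
    rw [this]
  unfold ext0
  by_cases hy : y ∈ (T₀ : Subgroup G)
  · rw [dif_pos hy, dif_pos (h1.2 hy)]
    exact hinv a ha haT ⟨y, hy⟩ ⟨_, h1.2 hy⟩ rfl
  · rw [dif_neg hy, dif_neg (fun h => hy (h1.1 h))]

theorem F0_cj (hinv : ∀ g ∈ P, cj g T₀ = T₀ → ∀ s s' : (T₀ : Subgroup G), (s' : G) = g * s * g⁻¹ → θ s' = θ s)
    {g : G} (hg : g ∈ P) (x : G) : F0 P T₀ θ (cj g T₀) x = ext0 T₀ θ (g⁻¹ * x * g) := by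
  have h : ∃ k ∈ P, cj k T₀ = cj g T₀ := ⟨g, hg, rfl⟩
  have e : F0 P T₀ θ (cj g T₀) x = ext0 T₀ θ (h.choose⁻¹ * x * h.choose) := dif_pos h
  rw [e]
  obtain ⟨hk, hkg⟩ := h.choose_spec
  set k := h.choose
  have h1 : cj (k⁻¹ * g) T₀ = T₀ := by
    rw [cj_mul, ← hkg, ← cj_mul, inv_mul_cancel, cj_one]
  have h2 := ext0_conj hinv (P.mul_mem (P.inv_mem hk) hg) h1 (g⁻¹ * x * g)
  rw [← h2]
  congr 1
  group

theorem F0_inv (hinv : ∀ g ∈ P, cj g T₀ = T₀ → ∀ s s' : (T₀ : Subgroup G), (s' : G) = g * s * g⁻¹ → θ s' = θ s)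
    {g : G} (hg : g ∈ P) (T : minSet N) (x : G) : F0 P T₀ θ (cj g T) (g * x * g⁻¹) = F0 P T₀ θ T x := by
  by_cases h : ∃ a ∈ P, cj a T₀ = T
  · obtain ⟨a, ha, rfl⟩ := h
    rw [← cj_mul, F0_cj hinv (P.mul_mem hg ha), F0_cj hinv ha]
    congr 1
    group
  · have h' : ¬ ∃ a ∈ P, cj a T₀ = cj g T := by
      rintro ⟨a, ha, hb⟩
      exact h ⟨g⁻¹ * a, P.mul_mem (P.inv_mem hg) ha, by rw [cj_mul, hb, ← cj_mul, inv_mul_cancel, cj_one]⟩
    have e1 : F0 P T₀ θ T x = 1 := dif_neg h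
    have e2 : F0 P T₀ θ (cj g T) (g * x * g⁻¹) = 1 := dif_neg h'
    rw [e1, e2]

/-- The factor is a conjugate of `θ` or trivial. -/
theorem F0_cases (hinv : ∀ g ∈ P, cj g T₀ = T₀ → ∀ s s' : (T₀ : Subgroup G), (s' : G) = g * s * g⁻¹ → θ s' = θ s)
    (T : minSet N) :
    (∃ e : (T : Subgroup G) ≃* (T₀ : Subgroup G), (fun t : (T : Subgroup G) => F0 P T₀ θ T t) = θ ∘ e) ∨
      (fun t : (T : Subgroup G) => F0 P T₀ θ T t) = 1 := by
  by_cases h : ∃ a ∈ P, cj a T₀ = T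
  · left
    obtain ⟨a, ha, rfl⟩ := h
    refine ⟨(ci a T₀).symm, ?_⟩
    funext t
    obtain ⟨s, rfl⟩ := (ci a T₀).surjective t
    rw [F0_cj hinv ha, Function.comp_apply, MulEquiv.symm_apply_apply, coe_ci]
    have : a⁻¹ * (a * (s : G) * a⁻¹) * a = s := by group
    rw [this]
    unfold ext0
    rw [dif_pos s.2]
  · right
    funext t
    exact dif_neg h

end prod

/-- **R7.** -/
theorem product [Fact (Nat.Prime 2)] (hM : IsPModular 2 M) (N : Subgroup G) [hN : N.Normal]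
    (h : Dec N) (P : Subgroup G) (T₀ : minSet N) (θ : IrrCharacter (T₀ : Subgroup G))
    (hθ : θ ∈ principalBlock M (T₀ : Subgroup G)) (hodd : Odd (charDegree (θ : ↥(T₀ : Subgroup G) → ℂ)))
    (hinv : ∀ g ∈ P, cj g T₀ = T₀ → ∀ s s' : (T₀ : Subgroup G),
      (s' : G) = g * s * g⁻¹ → (θ : ↥(T₀ : Subgroup G) → ℂ) s' = (θ : ↥(T₀ : Subgroup G) → ℂ) s)
    (hnr : ∃ s : (T₀ : Subgroup G), ((θ : ↥(T₀ : Subgroup G) → ℂ) s).im ≠ 0) :
    ∃ Θ : IrrCharacter N, Θ ∈ principalBlock M N ∧ Odd (charDegree (Θ : N → ℂ)) ∧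
      (∀ g ∈ P, ∀ n : N,
        (Θ : N → ℂ) ⟨g * n * g⁻¹, hN.conj_mem (n : G) n.2 g⟩ = (Θ : N → ℂ) n) ∧
      ∃ n : N, ((Θ : N → ℂ) n).im ≠ 0 := by
  classical
  have := Fintype.ofFinite (minSet N)
  have := Fintype.ofFinite N
  have hft : ∀ T : minSet N, Fintype (T : Subgroup G) := fun T => Fintype.ofFinite _
  let f : ∀ T : minSet N, ↥(T : Subgroup G) → ℂ := fun T t => F0 P T₀ (θ : ↥(T₀ : Subgroup G) → ℂ) T t
  have hcase : ∀ T : minSet N, (∃ e : (T : Subgroup G) ≃* (T₀ : Subgroup G), f T = (θ : ↥(T₀ : Subgroup G) → ℂ) ∘ e) ∨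
      f T = 1 := fun T => F0_cases hinv T
  have hirr : ∀ T : minSet N, IsIrrCharacter (T : Subgroup G) (f T) := by
    intro T
    rcases hcase T with ⟨e, he⟩ | h1
    · rw [he]
      exact isIrr_comp e.toMonoidHom e.surjective θ.2
    · rw [h1]
      exact isIrr_one
  have hdeg : ∀ T : minSet N, ∃ d : ℕ, Odd d ∧ f T 1 = d := by
    intro T
    rcases hcase T with ⟨e, he⟩ | h1
    · refine ⟨charDegree (θ : ↥(T₀ : Subgroup G) → ℂ), hodd, ?_⟩
      rw [he, Function.comp_apply, map_one]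
      exact Blocks.Basic.irr_one_eq_charDegree θ.2
    · exact ⟨1, odd_one, by rw [h1, Nat.cast_one]; rfl⟩
  choose d hd hfd using hdeg
  have hreg : ∀ T : minSet N, ∑ t : (T : Subgroup G), regPart 2 (f T) t ≠ 0 := by
    intro T
    rcases hcase T with ⟨e, he⟩ | h1
    · rw [he, sum_regPart_equiv]
      exact (H893.Sd.mem_iff hM θ).1 hθ
    · have h2 := (H893.Sd.mem_iff hM (H893.Sd.one (T : Subgroup G))).1 (by
        have := Blocks.Local.isPrime_of_isPModular hM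
        exact Blocks.PrincipalSection.one_mem_principalBlock)
      rw [h1]
      exact h2
  refine ⟨⟨h.F f, h.isIrr_F hirr⟩, ?_, ?_, ?_, ?_⟩
  · rw [H893.Sd.mem_iff hM]
    show ∑ n : N, regPart 2 (h.F f) n ≠ 0
    have h1 : ∑ n : N, regPart 2 (h.F f) n =
        ∑ c : (∀ T : minSet N, (T : Subgroup G)), regPart 2 (fun x : (∀ T : minSet N, (T : Subgroup G)) =>
          ∏ T, f T (x T)) c := by
      rw [← sum_regPart_equiv 2 h.E (h.F f)]
      refine Finset.sum_congr rfl fun c _ => ?_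
      congr 1
      funext x
      exact h.F_E f x
    rw [h1, sum_regPart_pi Nat.prime_two f]
    exact Finset.prod_ne_zero_iff.2 fun T _ => hreg T
  · have h1 : h.F f 1 = ((∏ T, d T : ℕ) : ℂ) := by
      rw [h.F_one]
      push_cast
      exact Finset.prod_congr rfl fun T _ => hfd T
    show Odd (charDegree (h.F f))
    rw [Blocks.Basic.charDegree_of_eq h1]
    exact Finset.prod_induction d Odd (fun a b ha hb => ha.mul hb) odd_one fun T _ => hd T
  · intro g hg n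
    show h.F f _ = h.F f n
    rw [h.F_conj]
    congr 1
    funext T t
    exact F0_inv hinv hg T t
  · obtain ⟨s, hs⟩ := hnr
    refine ⟨h.E (Pi.mulSingle T₀ s), ?_⟩
    show (h.F f (h.E (Pi.mulSingle T₀ s))).im ≠ 0
    rw [h.F_E, ← Finset.mul_prod_erase _ _ (Finset.mem_univ T₀), Pi.mulSingle_eq_same]
    have h1 : f T₀ s = (θ : ↥(T₀ : Subgroup G) → ℂ) s := by
      have h2 := F0_cj hinv (one_mem P) (s : G)
      rw [cj_one] at h2
      show F0 P T₀ (θ : ↥(T₀ : Subgroup G) → ℂ) T₀ s = _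
      rw [h2]
      have : (1 : G)⁻¹ * (s : G) * 1 = s := by group
      rw [this]
      unfold ext0
      rw [dif_pos s.2]
    have h2 : ∏ T ∈ Finset.univ.erase T₀, f T ((Pi.mulSingle T₀ s : ∀ T : minSet N, (T : Subgroup G)) T) =
        ((∏ T ∈ Finset.univ.erase T₀, d T : ℕ) : ℂ) := by
      push_cast
      refine Finset.prod_congr rfl fun T hT => ?_
      rw [Pi.mulSingle_eq_of_ne (Finset.ne_of_mem_erase hT)]
      exact hfd T
    rw [h1, h2, Complex.mul_im, Complex.natCast_im, Complex.natCast_re, mul_zero, zero_add]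
    refine mul_ne_zero hs ?_
    have h3 : Odd (∏ T ∈ Finset.univ.erase T₀, d T) :=
      Finset.prod_induction d Odd (fun a b ha hb => ha.mul hb) odd_one fun T _ => hd T
    exact_mod_cast h3.pos.ne'

end Cfsg.Agent.H634.Sd
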