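import Cfsg.Agent.H634.SdDef
import Cfsg.Agent.H315.SdNonreal
import Cfsg.Agent.H634.SdComp
import Cfsg.Agent.H634.SdProd
import Cfsg.Agent.H893.Sd.Lift

/-!
# S4579, reduction to simple groups: the nonabelian minimal normal subgroup
-/

set_option autoImplicit false

open Cfsg

namespace Cfsg.Agent.H634.Sd

open Cfsg.Agent.H643.Sd Cfsg.Agent.Lib.MinNormalNonabelian Cfsg.Agent.H793.PC

universe u

variable {G : Type u} [Group G] [Finite G] {M : Ideal AlgInt}

/-- The automorphisms of `S` induced by the elements of `P` which normalise `S`. -/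
def autP (P S : Subgroup G) : Subgroup (MulAut S) :=
  (P.subgroupOf (Subgroup.normalizer (S : Set G))).map S.normalizerMonoidHom

theorem mem_autP {P S : Subgroup G} {a : MulAut S} :
    a ∈ autP P S ↔ ∃ g : G, g ∈ P ∧ g ∈ Subgroup.normalizer (S : Set G) ∧
      ∀ s : S, ((a s : S) : G) = g * s * g⁻¹ := by
  constructor
  · rintro ⟨⟨g, hg⟩, hgP, rfl⟩
    exact ⟨g, hgP, hg, fun s => rfl⟩
  · rintro ⟨g, hgP, hg, h⟩
    refine ⟨⟨g, hg⟩, hgP, ?_⟩
    apply MulEquiv.ext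
    intro s
    apply Subtype.ext
    rw [h s]
    rfl

theorem ctx [Fact (Nat.Prime 2)] (P : Sylow 2 G) (S : Subgroup G) (Q : Sylow 2 S)
    (hQ : ∀ s : S, s ∈ Q ↔ (s : G) ∈ (P : Subgroup G)) : Ctx Q (autP (P : Subgroup G) S) where
  isP := by
    apply IsPGroup.map
    exact P.2.comap_of_injective _ Subtype.val_injective
  inner := by
    intro x hx
    rw [mem_autP]
    exact ⟨x, (hQ x).1 hx, S.le_normalizer x.2, fun s => rfl⟩
  stab := by
    intro a ha x hx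
    obtain ⟨g, hgP, -, h⟩ := mem_autP.1 ha
    have h1 : (x : G) ∈ (P : Subgroup G) := (hQ x).1 hx
    refine (hQ _).2 ?_
    rw [h x]
    exact (P : Subgroup G).mul_mem ((P : Subgroup G).mul_mem hgP h1) ((P : Subgroup G).inv_mem hgP)

theorem simple_step [Fact (Nat.Prime 2)]
    (rows : ∀ (S : Type u) [Group S] [Finite S] [IsSimpleGroup S], (∃ a b : S, a * b ≠ b * a) → Row S)
    (hM : IsPModular 2 M) (N : Subgroup G) [hN : N.Normal]
    (hmin : ∀ K : Subgroup G, K.Normal → K ≤ N → K = ⊥ ∨ K = N)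
    (hna : ¬ ∀ a ∈ N, ∀ b ∈ N, a * b = b * a) (hperf : ⁅N, N⁆ = N) (hG : ¬ NonElem (G ⧸ N))
    (P : Sylow 2 G) (f : (P : Subgroup G) →* ℂˣ) (hx : ∃ x, f x ^ 2 ≠ 1) : HasNR M G := by
  classical
  have h1 := H315.SdNonreal.nonreal_on N hperf hG P f hx
  obtain ⟨T, hS, hSna, ⟨Q, hQ⟩, x, hxS, hfx⟩ := exists_comp N hmin hna P f h1
  have hd : Dec N := dec_of hmin hna
  have c := ctx P (T : Subgroup G) Q hQ
  -- the linear character of `Q`
  let ι : (Q : Subgroup (T : Subgroup G)) →* (P : Subgroup G) :=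
    { toFun := fun q => ⟨((q : (T : Subgroup G)) : G), (hQ q).1 q.2⟩
      map_one' := rfl
      map_mul' := fun a b => rfl }
  have hcomm : ∃ a b : (T : Subgroup G), a * b ≠ b * a := by
    by_contra hcon
    push Not at hcon
    exact hSna ⟨⟨hcon⟩⟩
  have hrow := rows (T : Subgroup G) hcomm M hM Q _ c (f.comp ι) (by
    intro a ha y hy
    obtain ⟨g, hgP, -, h⟩ := mem_autP.1 ha
    have e : ι ⟨a y, c.stab a ha y hy⟩ = ⟨g, hgP⟩ * ι ⟨y, hy⟩ * (⟨g, hgP⟩ : (P : Subgroup G))⁻¹ := by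
      apply Subtype.ext
      exact h y
    rw [MonoidHom.comp_apply, MonoidHom.comp_apply, e, map_mul, map_mul, map_inv]
    rw [mul_comm (f _) (f _), mul_assoc, mul_inv_cancel, mul_one]) (by
    refine ⟨⟨⟨x, hxS⟩, (hQ _).2 x.2⟩, ?_⟩
    rw [MonoidHom.comp_apply]
    exact hfx)
  obtain ⟨θ, hθ, hodd, hinv, hnr⟩ := hrow
  obtain ⟨Θ, h2, h3, h4, h5⟩ := product hM N hd (P : Subgroup G) T θ hθ hodd (by
    intro g hgP hgS s s' hs
    have hg : g ∈ Subgroup.normalizer ((T : Subgroup G) : Set G) := by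
      rw [Subgroup.mem_normalizer_iff]
      intro y
      have h6 : g * y * g⁻¹ ∈ ((cj g T : minSet N) : Subgroup G) ↔ g⁻¹ * (g * y * g⁻¹) * g ∈ (T : Subgroup G) :=
        mem_cj g T
      have h7 : g⁻¹ * (g * y * g⁻¹) * g = y := by group
      rw [hgS, h7] at h6
      exact h6.symm
    have h6 : (T : Subgroup G).normalizerMonoidHom ⟨g, hg⟩ ∈ autP (P : Subgroup G) (T : Subgroup G) :=
      ⟨⟨g, hg⟩, hgP, rfl⟩
    have h7 : (T : Subgroup G).normalizerMonoidHom ⟨g, hg⟩ s = s' := Subtype.ext hs.symm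
    rw [← h7]
    exact hinv _ h6 s) hnr
  exact H893.Sd.lift hM N hperf P Θ h2 h3 h4 h5

end Cfsg.Agent.H634.Sd
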